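import Cfsg.Agent.Lib.SympExt.Basic

/-!
An element moving some `E`-line off the `E`-lines gives one meeting an `E`-line in a hyperplane.
-/

set_option autoImplicit false

namespace Cfsg.Agent.Lib.SympExt

open Module

variable {F E V : Type*} [Field F] [Field E] [Algebra F E] [AddCommGroup V] [Module F V] [Module E V]
  [IsScalarTower F E V] {B : LinearMap.BilinForm F V} {M : Subgroup (V ≃ₗ[F] V)}

/-- The `E`-line of a vector, over `F`. -/
def ln (E : Type*) [Field E] [Algebra F E] [Module E V] [IsScalarTower F E V] (v : V) : Submodule F V :=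
  LinearMap.range ((LinearMap.toSpanSingleton E V v).restrictScalars F)

theorem mem_ln {v x : V} : x ∈ ln (F := F) E v ↔ ∃ e : E, e • v = x := Iff.rfl

theorem smul_mem_ln (e : E) (v : V) : e • v ∈ ln (F := F) E v := ⟨e, rfl⟩

theorem self_mem_ln (v : V) : v ∈ ln (F := F) E v := ⟨1, one_smul E v⟩

theorem finrank_ln {v : V} (hv : v ≠ 0) : finrank F ↥(ln (F := F) E v) = finrank F E :=
  LinearMap.finrank_range_of_inj (smul_left_injective E hv)

/-- The image of an `E`-line. -/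
def img (E : Type*) [Field E] [Algebra F E] [Module E V] [IsScalarTower F E V] (g : V ≃ₗ[F] V) (v : V) :
    Submodule F V := (ln (F := F) E v).map (g : V →ₗ[F] V)

theorem finrank_img (g : V ≃ₗ[F] V) {v : V} (hv : v ≠ 0) : finrank F ↥(img E g v) = finrank F E := by
  rw [img, LinearEquiv.finrank_map_eq, finrank_ln hv]

/-- Two lines with a common non-zero vector are equal. -/
theorem ln_eq {v w x : V} (hx : x ≠ 0) (hv : x ∈ ln (F := F) E v) (hw : x ∈ ln (F := F) E w) :
    ln (F := F) E v = ln E w := by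
  have key : ∀ {v}, x ∈ ln (F := F) E v → ln (F := F) E v = ln E x := by
    intro v h
    obtain ⟨e, rfl⟩ := h
    have he : e ≠ 0 := fun h0 => hx (by simp [h0])
    ext y
    constructor
    · rintro ⟨f, rfl⟩
      exact ⟨f / e, by simp [smul_smul, div_mul_cancel₀ _ he]⟩
    · rintro ⟨f, rfl⟩
      exact ⟨f * e, by simp [smul_smul]⟩
  rw [key hv, key hw]

/-- Some image of a line, not itself a line, meets a line in dimension at least `k`. -/
def Inter (E : Type*) [Field E] [Algebra F E] [Module E V] [IsScalarTower F E V]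
    (M : Subgroup (V ≃ₗ[F] V)) (k : ℕ) : Prop :=
  ∃ g ∈ M, ∃ v w : V, v ≠ 0 ∧ w ≠ 0 ∧ img E g v ≠ ln E w ∧ k ≤ finrank F ↥(img E g v ⊓ ln E w)

variable [Finite E]

theorem isotropic_img (D : EData E B) (hO : Over E B M) {g : V ≃ₗ[F] V} (hg : g ∈ M) (v : V) {x z : V}
    (hx : x ∈ img E g v) (hz : z ∈ img E g v) : B x z = 0 := by
  obtain ⟨_, ⟨e, rfl⟩, rfl⟩ := hx
  obtain ⟨_, ⟨f, rfl⟩, rfl⟩ := hz
  show B (g (e • v)) (g (f • v)) = 0
  rw [hO.iso g hg, D.B_smul_BE, D.BE_smul_right, D.BE_self, mul_zero, mul_zero, map_zero]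

variable [FiniteDimensional F V]

theorem inter_one (hO : Over E B M) : Inter E M 1 := by
  obtain ⟨g, hg, v, e, he⟩ := hO.notSemi
  have hv : v ≠ 0 := fun h => he 0 (by simp [h])
  have hgv : g v ≠ 0 := by simpa using hv
  refine ⟨g, hg, v, g v, hv, hgv, fun h => ?_, ?_⟩
  · obtain ⟨f, hf⟩ := (h ▸ ⟨e • v, smul_mem_ln e v, rfl⟩ : g (e • v) ∈ ln (F := F) E (g v))
    exact he f hf.symm
  · refine Submodule.one_le_finrank_iff.mpr fun h => hgv ?_
    have hm : g v ∈ img E g v ⊓ ln E (g v) := ⟨⟨v, self_mem_ln v, rfl⟩, self_mem_ln _⟩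
    rw [h] at hm
    simpa using hm

theorem finrank_inter_lt {g : V ≃ₗ[F] V} {v w : V} (hv : v ≠ 0) (hw : w ≠ 0) (hne : img E g v ≠ ln E w) :
    finrank F ↥(img E g v ⊓ ln E w) < finrank F E := by
  by_contra hle
  push Not at hle
  refine hne ((Submodule.eq_of_le_of_finrank_le inf_le_left ?_).symm.trans
    (Submodule.eq_of_le_of_finrank_le inf_le_right ?_))
  · rwa [finrank_img g hv]
  · rwa [finrank_ln hw]

/-- An element fixing the intersection and keeping more of the image gives a larger intersection. -/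
theorem inter_shift' {g h : V ≃ₗ[F] V} (hg : g ∈ M) (hh : h ∈ M) {v : V} {X : Submodule F V}
    (hX : X ≤ img E g v) (hstab : ∀ x ∈ X, h x ∈ img E g v) {y : V} (hy : y ∈ img E g v)
    (hhy : h y ∈ img E g v) (hyX : y ∉ X) {y' : V} (hy' : y' ∈ img E g v) (hhy' : h y' ∉ img E g v) :
    ∃ g' ∈ M, img E g' v ≠ ln E v ∧ finrank F X + 1 ≤ finrank F ↥(img E g' v ⊓ ln E v) := by
  refine ⟨g⁻¹ * h * g, mul_mem (mul_mem (inv_mem hg) hh) hg, fun e => ?_, ?_⟩
  · apply hhy'
    obtain ⟨u, hu, rfl⟩ := hy'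
    have h1 : (g⁻¹ * h * g) u ∈ ln (F := F) E v := e ▸ ⟨u, hu, rfl⟩
    exact ⟨_, h1, g.apply_symm_apply _⟩
  · set Z := img E g v ⊓ (img E g v).comap (h : V →ₗ[F] V) with hZ
    have hXZ : X < Z := lt_of_le_of_ne (fun x hx => ⟨hX hx, hstab x hx⟩) fun e => hyX (e ▸ ⟨hy, hhy⟩)
    have hlt := Submodule.finrank_lt_finrank_of_lt hXZ
    have hle : Z.map ((g⁻¹ * h : V ≃ₗ[F] V) : V →ₗ[F] V) ≤ img E (g⁻¹ * h * g) v ⊓ ln E v := by
      rintro _ ⟨z, ⟨hz1, hz2⟩, rfl⟩
      obtain ⟨u, hu, rfl⟩ := hz1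
      refine ⟨⟨u, hu, by simp [LinearEquiv.mul_apply]⟩, ?_⟩
      obtain ⟨u', hu', e⟩ := hz2
      simp only [LinearEquiv.coe_coe, LinearEquiv.mul_apply] at e ⊢
      rw [← e]
      show g.symm (g u') ∈ _
      rwa [g.symm_apply_apply]
    have := Submodule.finrank_mono hle
    rw [LinearEquiv.finrank_map_eq] at this
    omega

/-- An element fixing the intersection and keeping more of the image gives a larger intersection. -/
theorem inter_shift {g h : V ≃ₗ[F] V} (hg : g ∈ M) (hh : h ∈ M) {v : V} (hv : v ≠ 0) {X : Submodule F V}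
    (hX : X ≤ img E g v) (hfix : ∀ x ∈ X, h x = x) {y : V} (hy : y ∈ img E g v) (hhy : h y ∈ img E g v)
    (hyX : y ∉ X) {y' : V} (hy' : y' ∈ img E g v) (hhy' : h y' ∉ img E g v) :
    Inter E M (finrank F X + 1) := by
  obtain ⟨g', hg', hne, hle⟩ :=
    inter_shift' hg hh hX (fun x hx => by rw [hfix x hx]; exact hX hx) hy hhy hyX hy' hhy'
  exact ⟨g', hg', v, v, hv, hv, hne, hle⟩

/-- Shears along `w` driven by a functional increase the intersection. -/
theorem inter_step' (hr : (finrank F E).Prime) {g : V ≃ₗ[F] V} (hg : g ∈ M) {v w : V} (hv : v ≠ 0) (hw : w ≠ 0)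
    (hne : img E g v ≠ ln E w) (hk : 0 < finrank F ↥(img E g v ⊓ ln E w))
    (hk1 : finrank F ↥(img E g v ⊓ ln E w) + 1 < finrank F E) (p : V →ₗ[F] E)
    (hpX : ∀ x ∈ img E g v ⊓ ln E w, p x = 0) {y₀ : V} (hy₀ : y₀ ∈ img E g v) (hpy₀ : p y₀ ≠ 0)
    (sh : E → V ≃ₗ[F] V) (hsh : ∀ a, sh a ∈ M)
    (hfix : ∀ a, ∀ x ∈ img E g v ⊓ ln E w, sh a x = x)
    (happ : ∀ a, ∀ y ∈ img E g v, sh a y = y + (a * p y) • w) :
    ∃ g' ∈ M, img E g' v ≠ ln E v ∧
      finrank F ↥(img E g v ⊓ ln E w) + 1 ≤ finrank F ↥(img E g' v ⊓ ln E v) := by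
  haveI : Finite F := Finite.of_injective (algebraMap F E) (algebraMap F E).injective
  set X := img E g v ⊓ ln E w with hX
  set Xc : Submodule F E := X.comap ((LinearMap.toSpanSingleton E V w).restrictScalars F) with hXc
  have memXc : ∀ e : E, e ∈ Xc ↔ e • w ∈ img E g v := fun e =>
    ⟨fun h => (Submodule.mem_inf.mp h).1, fun h => ⟨h, smul_mem_ln e w⟩⟩
  have happ' : ∀ a, ∀ y ∈ img E g v, (sh a y ∈ img E g v ↔ a * p y ∈ Xc) := fun a y hy => by
    rw [happ a y hy, Submodule.add_mem_iff_right _ hy, memXc]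
  obtain ⟨x, hx, hx0⟩ : ∃ x ∈ X, x ≠ 0 := Submodule.exists_mem_ne_zero_of_ne_bot fun e => by
    rw [e, finrank_bot] at hk; omega
  obtain ⟨x1, rfl⟩ := (Submodule.mem_inf.mp hx).2
  have hx1 : x1 ∈ Xc := hx
  have hx10 : x1 ≠ 0 := fun e => hx0 (by simp [e])
  obtain ⟨z, hz⟩ : ∃ z, z ∉ Xc := by
    by_contra hall
    push Not at hall
    have : ln E w ≤ X := by rintro _ ⟨e, rfl⟩; exact hall e
    have := Submodule.finrank_mono this
    rw [finrank_ln hw] at this
    omega
  by_cases hker : ∃ y ∈ img E g v, p y = 0 ∧ y ∉ X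
  · obtain ⟨y, hy, hpy, hyX⟩ := hker
    refine inter_shift' hg (hsh (z / p y₀)) inf_le_left
      (fun x hx => by rw [hfix _ x hx]; exact hx.1) hy ((happ' _ y hy).mpr ?_) hyX hy₀
      fun h => hz ?_
    · rw [hpy, mul_zero]; exact Xc.zero_mem
    · have := (happ' _ y₀ hy₀).mp h
      rwa [div_mul_cancel₀ _ hpy₀] at this
  push Not at hker
  obtain ⟨y₂, hy₂, hy₂s⟩ : ∃ y ∈ img E g v, ∀ c : F, p y ≠ c • p y₀ := by
    by_contra hno
    push Not at hno
    have hle : img E g v ≤ X ⊔ Submodule.span F {y₀} := fun y hy => by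
      obtain ⟨c, hc⟩ := hno y hy
      refine Submodule.mem_sup.mpr ⟨y - c • y₀, hker _ (Submodule.sub_mem _ hy (Submodule.smul_mem _ c hy₀))
        (by rw [map_sub, map_smul, hc, sub_self]), c • y₀, Submodule.smul_mem _ c
        (Submodule.mem_span_singleton_self y₀), sub_add_cancel _ _⟩
    have h1 := Submodule.finrank_mono hle
    have h2 := Submodule.finrank_add_le_finrank_add_finrank X (Submodule.span F {y₀})
    rw [finrank_img g hv] at h1
    rw [finrank_span_singleton (fun e => hpy₀ (by rw [e, map_zero]))] at h2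
    omega
  set s := p y₂ / p y₀ with hs
  obtain ⟨x2, hx2, hsx2⟩ : ∃ x ∈ Xc, s * x ∉ Xc := by
    by_contra hno
    push Not at hno
    let S : Subalgebra F E :=
      { carrier := {e | ∀ x ∈ Xc, e * x ∈ Xc}
        mul_mem' := fun {a b} ha hb x hx => by rw [mul_assoc]; exact ha _ (hb _ hx)
        add_mem' := fun {a b} ha hb x hx => by rw [add_mul]; exact Xc.add_mem (ha _ hx) (hb _ hx)
        algebraMap_mem' := fun c x hx => by rw [← Algebra.smul_def]; exact Xc.smul_mem c hx }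
    haveI := Subalgebra.isSimpleOrder_of_finrank_prime F E hr
    rcases IsSimpleOrder.eq_bot_or_eq_top S with hS | hS
    · obtain ⟨c, hc⟩ := Algebra.mem_bot.mp (hS ▸ (show s ∈ S from hno) : s ∈ (⊥ : Subalgebra F E))
      refine hy₂s c ?_
      rw [Algebra.smul_def, hc, hs, div_mul_cancel₀ _ hpy₀]
    · refine hz ?_
      have h := (hS ▸ Algebra.mem_top : z / x1 ∈ S) x1 hx1
      rwa [div_mul_cancel₀ _ hx10] at h
  refine inter_shift' hg (hsh (x2 / p y₀)) inf_le_left
    (fun x hx => by rw [hfix _ x hx]; exact hx.1) hy₀ ((happ' _ y₀ hy₀).mpr ?_)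
    (fun h => hpy₀ (hpX _ h)) hy₂ fun h => hsx2 ?_
  · rwa [div_mul_cancel₀ _ hpy₀]
  · have := (happ' _ y₂ hy₂).mp h
    rwa [show x2 / p y₀ * p y₂ = s * x2 by rw [hs]; ring] at this

/-- Shears along `w` driven by a functional increase the intersection. -/
theorem inter_step (hr : (finrank F E).Prime) {g : V ≃ₗ[F] V} (hg : g ∈ M) {v w : V} (hv : v ≠ 0) (hw : w ≠ 0)
    (hne : img E g v ≠ ln E w) (hk : 0 < finrank F ↥(img E g v ⊓ ln E w))
    (hk1 : finrank F ↥(img E g v ⊓ ln E w) + 1 < finrank F E) (p : V →ₗ[F] E)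
    (hpX : ∀ x ∈ img E g v ⊓ ln E w, p x = 0) {y₀ : V} (hy₀ : y₀ ∈ img E g v) (hpy₀ : p y₀ ≠ 0)
    (sh : E → V ≃ₗ[F] V) (hsh : ∀ a, sh a ∈ M)
    (hfix : ∀ a, ∀ x ∈ img E g v ⊓ ln E w, sh a x = x)
    (happ : ∀ a, ∀ y ∈ img E g v, sh a y = y + (a * p y) • w) :
    Inter E M (finrank F ↥(img E g v ⊓ ln E w) + 1) := by
  obtain ⟨g', hg', hne', hle⟩ := inter_step' hr hg hv hw hne hk hk1 p hpX hy₀ hpy₀ sh hsh hfix happ
  exact ⟨g', hg', v, v, hv, hv, hne', hle⟩

/-- Some image meets a line in a hyperplane. -/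
theorem inter_hyperplane [FiniteDimensional E V] (D : EData E B) (hO : Over E B M) (hr : (finrank F E).Prime) :
    ∀ k, 1 ≤ k → k < finrank F E → Inter E M k := by
  intro k hk
  induction k, hk using Nat.le_induction with
  | base => exact fun _ => inter_one hO
  | succ k hk ih =>
    intro hlt
    obtain ⟨g, hg, v, w, hv, hw, hne, hX⟩ := ih (by omega)
    set X := img E g v ⊓ ln E w with hXdef
    by_cases hbig : k + 1 ≤ finrank F X
    · exact ⟨g, hg, v, w, hv, hw, hne, hbig⟩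
    suffices Inter E M (finrank F X + 1) by
      obtain ⟨g', hg', v', w', hv', hw', hne', h'⟩ := this
      exact ⟨g', hg', v', w', hv', hw', hne', by omega⟩
    have hk0 : 0 < finrank F X := by omega
    have hk1 : finrank F X + 1 < finrank F E := by omega
    have hXw : ∀ x ∈ X, D.BE w x = 0 := fun x hx => by
      obtain ⟨e, rfl⟩ := (Submodule.mem_inf.mp hx).2
      show D.BE w (e • w) = 0
      rw [D.BE_smul_right, D.BE_self, mul_zero]
    let pl : V → V →ₗ[F] E := fun u => (D.form u).restrictScalars F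
    by_cases ha : ∃ y ∈ img E g v, D.BE w y ≠ 0
    · obtain ⟨y₀, hy₀, h0⟩ := ha
      exact inter_step hr hg hv hw hne hk0 hk1 (pl w) hXw hy₀ h0 (D.T w) (hO.T_mem D w)
        (fun a x hx => D.T_fix a (hXw x hx)) (fun a y _ => rfl)
    push Not at ha
    obtain ⟨y₁, hy₁, hy₁X⟩ := SetLike.exists_of_lt (lt_of_le_of_ne (inf_le_left : X ≤ img E g v) fun e => by
      have := finrank_inter_lt hv hw hne
      rw [e, finrank_img g hv] at this
      omega)
    have hy₁w : y₁ ∉ Submodule.span E ({w} : Set V) := fun h => by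
      obtain ⟨e, he⟩ := Submodule.mem_span_singleton.mp h
      exact hy₁X ⟨hy₁, e, he⟩
    by_cases hb : ∃ y₂ ∈ img E g v, y₂ ∉ Submodule.span E ({w, y₁} : Set V)
    · obtain ⟨y₂, hy₂, hy₂S⟩ := hb
      obtain ⟨u, hu, hu2⟩ := D.exists_sep hy₂S
      have huw : D.BE u w = 0 := hu w (Submodule.subset_span (by simp))
      have hu1 : D.BE u y₁ = 0 := hu y₁ (Submodule.subset_span (by simp))
      have hXu : ∀ x ∈ X, D.BE u x = 0 := fun x hx => by
        obtain ⟨e, rfl⟩ := (Submodule.mem_inf.mp hx).2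
        show D.BE u (e • w) = 0
        rw [D.BE_smul_right, huw, mul_zero]
      obtain ⟨a, ha'⟩ : ∃ a, D.T u a y₂ ∉ img E g v := by
        by_contra hall
        push Not at hall
        have hu0 : u ≠ 0 := fun e => one_ne_zero (α := E) (by
          rw [← hu2, e, ← zero_smul E u, D.BE_smul_left, zero_mul])
        have hle : ln E u ≤ img E g v := by
          rintro _ ⟨a, rfl⟩
          have h := Submodule.sub_mem _ (hall a) hy₂
          rwa [D.T_apply, hu2, mul_one, add_sub_cancel_left] at h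
        have e1 := Submodule.eq_of_le_of_finrank_le hle (by rw [finrank_img g hv, finrank_ln hu0])
        obtain ⟨x, hx, hx0⟩ : ∃ x ∈ X, x ≠ 0 := Submodule.exists_mem_ne_zero_of_ne_bot fun e => by
          rw [e, finrank_bot] at hk0; omega
        exact hne (e1 ▸ ln_eq hx0 (e1.symm ▸ hx.1) hx.2)
      exact inter_shift hg (hO.T_mem D u a) hv inf_le_left (fun x hx => D.T_fix a (hXu x hx)) hy₁
        (by rw [D.T_fix a hu1]; exact hy₁) hy₁X hy₂ ha'
    push Not at hb
    obtain ⟨p₀, hp, hp1⟩ := D.exists_sep hy₁w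
    have hpw : D.BE p₀ w = 0 := hp w (Submodule.mem_span_singleton_self w)
    have hwp : D.BE w p₀ = 0 := by rw [D.BE_comm, hpw, neg_zero]
    have hXp : ∀ x ∈ X, D.BE p₀ x = 0 := fun x hx => by
      obtain ⟨e, rfl⟩ := (Submodule.mem_inf.mp hx).2
      show D.BE p₀ (e • w) = 0
      rw [D.BE_smul_right, hpw, mul_zero]
    exact inter_step hr hg hv hw hne hk0 hk1 (pl p₀) hXp hy₁ (by simp [pl, EData.form, hp1]) (D.Sg w p₀)
      (hO.Sg_mem D w p₀)
      (fun a x hx => by rw [D.Sg_apply hwp, hXp x hx, hXw x hx]; simp)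
      (fun a y hy => by rw [D.Sg_apply hwp, ha y hy, mul_zero, zero_smul, add_zero]; rfl)

end Cfsg.Agent.Lib.SympExt
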