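import Mathlib

/-!
A symplectic space over `F` coming from one over an extension `E`: the `E`-valued form, transvections, and the
predicate that `1 + A` lies in a group.
-/

set_option autoImplicit false

namespace Cfsg.Agent.Lib.SympExt

variable {F E V : Type*} [Field F] [Field E] [Algebra F E] [AddCommGroup V] [Module F V] [Module E V]
  [IsScalarTower F E V] {B : LinearMap.BilinForm F V}

/-- An alternating non-degenerate form for which the scalars of `E` are self-adjoint. -/
structure EData (E : Type*) [Field E] [Module E V] (B : LinearMap.BilinForm F V) : Prop where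
  nondeg : ∀ u, (∀ v, B u v = 0) → u = 0
  adj : ∀ (e : E) u v, B (e • u) v = B u (e • v)
  altE : ∀ (e : E) v, B (e • v) v = 0

namespace EData

theorem alt (D : EData E B) (v : V) : B v v = 0 := by
  simpa using D.altE 1 v

theorem skew (D : EData E B) (u v : V) : B u v = -B v u := by
  have h := D.alt (u + v)
  simp only [map_add, LinearMap.add_apply, D.alt, zero_add, add_zero] at h
  linear_combination h

variable [Finite E]

/-- The `E`-valued form: `tr (e * BE u v) = B (e • u) v`. -/
noncomputable def BE (_D : EData E B) (u v : V) : E :=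
  haveI : Finite F := Finite.of_injective (algebraMap F E) (algebraMap F E).injective
  (LinearMap.BilinForm.toDual (Algebra.traceForm F E) (traceForm_nondegenerate F E)).symm
    ((B.flip v).comp ((LinearMap.toSpanSingleton E V u).restrictScalars F))

theorem trace_BE (D : EData E B) (u v : V) (e : E) :
    Algebra.trace F E (e * D.BE u v) = B (e • u) v := by
  haveI : Finite F := Finite.of_injective (algebraMap F E) (algebraMap F E).injective
  rw [mul_comm, ← Algebra.traceForm_apply, BE, LinearMap.BilinForm.apply_toDual_symm_apply]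
  simp

theorem B_eq (D : EData E B) (u v : V) : B u v = Algebra.trace F E (D.BE u v) := by
  have h := D.trace_BE u v 1
  rw [one_mul, one_smul] at h
  exact h.symm

theorem BE_unique (D : EData E B) {u v : V} {a : E} (h : ∀ e : E, Algebra.trace F E (e * a) = B (e • u) v) :
    D.BE u v = a := by
  haveI : Finite F := Finite.of_injective (algebraMap F E) (algebraMap F E).injective
  refine sub_eq_zero.mp ((traceForm_nondegenerate F E).1 _ fun e => ?_)
  rw [Algebra.traceForm_apply, mul_comm, mul_sub, map_sub, h, D.trace_BE, sub_self]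

theorem BE_comm (D : EData E B) (u v : V) : D.BE u v = -D.BE v u := D.BE_unique fun e => by
  rw [mul_neg, map_neg, D.trace_BE, D.adj, ← D.skew]

theorem BE_self (D : EData E B) (v : V) : D.BE v v = 0 := D.BE_unique fun e => by
  rw [mul_zero, map_zero, D.altE]

theorem BE_add_right (D : EData E B) (u v v' : V) : D.BE u (v + v') = D.BE u v + D.BE u v' :=
  D.BE_unique fun e => by rw [mul_add, map_add, D.trace_BE, D.trace_BE, map_add]

theorem BE_add_left (D : EData E B) (u u' v : V) : D.BE (u + u') v = D.BE u v + D.BE u' v :=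
  D.BE_unique fun e => by rw [mul_add, map_add, D.trace_BE, D.trace_BE, smul_add, map_add, LinearMap.add_apply]

theorem BE_smul_left (D : EData E B) (a : E) (u v : V) : D.BE (a • u) v = a * D.BE u v :=
  D.BE_unique fun e => by rw [← mul_assoc, D.trace_BE, mul_smul]

theorem BE_smul_right (D : EData E B) (a : E) (u v : V) : D.BE u (a • v) = a * D.BE u v := by
  rw [D.BE_comm, D.BE_smul_left, D.BE_comm u v, mul_neg]

theorem BE_sub_right (D : EData E B) (u v v' : V) : D.BE u (v - v') = D.BE u v - D.BE u v' := by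
  rw [eq_sub_iff_add_eq, ← D.BE_add_right, sub_add_cancel]

theorem BE_sub_left (D : EData E B) (u u' v : V) : D.BE (u - u') v = D.BE u v - D.BE u' v := by
  rw [eq_sub_iff_add_eq, ← D.BE_add_left, sub_add_cancel]

theorem BE_zero_right (D : EData E B) (u : V) : D.BE u (0 : V) = 0 := by
  rw [← zero_smul E (0 : V), D.BE_smul_right, zero_mul]

theorem BE_smulF_right (D : EData E B) (c : F) (u v : V) : D.BE u (c • v) = c • D.BE u v := by
  rw [← algebraMap_smul E c v, D.BE_smul_right, Algebra.smul_def]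

theorem B_smul_BE (D : EData E B) (e : E) (u v : V) : B (e • u) v = Algebra.trace F E (e * D.BE u v) :=
  (D.trace_BE u v e).symm

/-- The `E`-valued form as a bilinear form over `E`. -/
noncomputable def form (D : EData E B) : LinearMap.BilinForm E V :=
  LinearMap.mk₂ E D.BE D.BE_add_left D.BE_smul_left D.BE_add_right D.BE_smul_right

theorem BE_nondeg (D : EData E B) {u : V} (h : ∀ v, D.BE u v = 0) : u = 0 :=
  D.nondeg u fun v => by rw [D.B_eq, h, map_zero]

/-- A linear functional over `E` is a product with a vector. -/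
theorem exists_sep [FiniteDimensional E V] (D : EData E B) {S : Submodule E V} {y : V} (hy : y ∉ S) :
    ∃ u, (∀ s ∈ S, D.BE u s = 0) ∧ D.BE u y = 1 := by
  have hnd : D.form.Nondegenerate :=
    ⟨fun z hz => D.BE_nondeg hz, fun z hz => D.BE_nondeg fun v => by rw [D.BE_comm, show D.BE v z = 0 from hz v, neg_zero]⟩
  obtain ⟨φ, hφ, hS⟩ := Submodule.exists_dual_map_eq_bot_of_notMem hy inferInstance
  set u := (LinearMap.BilinForm.toDual D.form hnd).symm φ with hu
  have key : ∀ v, D.BE u v = φ v := fun v => by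
    show D.form u v = φ v
    rw [hu, LinearMap.BilinForm.apply_toDual_symm_apply]
  refine ⟨(φ y)⁻¹ • u, fun s hs => ?_, ?_⟩
  · have h : φ s ∈ S.map φ := ⟨s, hs, rfl⟩
    rw [hS, Submodule.mem_bot] at h
    rw [D.BE_smul_left, key, h, mul_zero]
  · rw [D.BE_smul_left, key, inv_mul_cancel₀ hφ]

/-- `x ↦ (a * BE u x) • u`. -/
noncomputable def tpart (D : EData E B) (u : V) (a : E) : V →ₗ[F] V where
  toFun x := (a * D.BE u x) • u
  map_add' x y := by rw [D.BE_add_right, mul_add, add_smul]
  map_smul' c x := by rw [D.BE_smulF_right, mul_smul_comm, smul_assoc, RingHom.id_apply]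

theorem tpart_apply (D : EData E B) (u : V) (a : E) (x : V) : D.tpart u a x = (a * D.BE u x) • u := rfl

theorem tpart_tpart (D : EData E B) (u : V) (a a' : E) (x : V) : D.tpart u a (D.tpart u a' x) = 0 := by
  rw [tpart_apply, tpart_apply, D.BE_smul_right, D.BE_self, mul_zero, mul_zero, zero_smul]

theorem tpart_skew (D : EData E B) (u : V) (a : E) (x z : V) :
    B (D.tpart u a x) z = -B x (D.tpart u a z) := by
  rw [tpart_apply, tpart_apply, D.skew x, neg_neg, D.B_smul_BE, D.B_smul_BE]
  ring_nf

/-- The transvection `x ↦ x + (a * BE u x) • u`. -/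
noncomputable def T (D : EData E B) (u : V) (a : E) : V ≃ₗ[F] V :=
  LinearEquiv.ofLinearMap (LinearMap.id + D.tpart u a) (LinearMap.id + D.tpart u (-a))
    (LinearMap.ext fun x => by
      simp only [LinearMap.comp_apply, LinearMap.add_apply, LinearMap.id_apply, map_add, D.tpart_tpart,
        add_zero]
      simp [tpart_apply])
    (LinearMap.ext fun x => by
      simp only [LinearMap.comp_apply, LinearMap.add_apply, LinearMap.id_apply, map_add, D.tpart_tpart,
        add_zero]
      simp [tpart_apply])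

theorem T_apply (D : EData E B) (u : V) (a : E) (x : V) : D.T u a x = x + (a * D.BE u x) • u := rfl

theorem T_smul (D : EData E B) (u : V) (a e : E) (x : V) : D.T u a (e • x) = e • D.T u a x := by
  rw [T_apply, T_apply, D.BE_smul_right, smul_add, smul_smul]
  ring_nf

theorem T_iso (D : EData E B) (u : V) (a : E) (x z : V) : B (D.T u a x) (D.T u a z) = B x z := by
  have h0 : B ((a * D.BE u x) • u) ((a * D.BE u z) • u) = 0 := by
    rw [D.B_smul_BE, D.BE_smul_right, D.BE_self, mul_zero, mul_zero, map_zero]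
  have h1 := D.tpart_skew u a x z
  rw [tpart_apply, tpart_apply] at h1
  rw [T_apply, T_apply, map_add, map_add, LinearMap.add_apply, LinearMap.add_apply, h0, h1]
  ring

theorem T_fix (D : EData E B) {u x : V} (a : E) (h : D.BE u x = 0) : D.T u a x = x := by
  rw [T_apply, h, mul_zero, zero_smul, add_zero]

/-- The map `x ↦ x + (a BE p x) • w + (a BE w x) • p`, for `BE w p = 0`. -/
noncomputable def Sg (D : EData E B) (w p : V) (a : E) : V ≃ₗ[F] V :=
  D.T (w + p) a * D.T w (-a) * D.T p (-a)

theorem Sg_apply (D : EData E B) {w p : V} (h : D.BE w p = 0) (a : E) (x : V) :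
    D.Sg w p a x = x + (a * D.BE p x) • w + (a * D.BE w x) • p := by
  have h' : D.BE p w = 0 := by rw [D.BE_comm, h, neg_zero]
  simp only [Sg, LinearEquiv.mul_apply, T_apply, D.BE_add_right, D.BE_smul_right, D.BE_add_left, D.BE_self, h, h',
    mul_zero, add_zero]
  module

end EData

/-- An overgroup of the `E`-linear isometries with an element that is not semilinear. -/
structure Over (E : Type*) [Field E] [Module E V] (B : LinearMap.BilinForm F V)
    (M : Subgroup (V ≃ₗ[F] V)) : Prop where
  iso : ∀ g ∈ M, ∀ u v, B (g u) (g v) = B u v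
  lin : ∀ g : V ≃ₗ[F] V, (∀ u v, B (g u) (g v) = B u v) → (∀ (e : E) v, g (e • v) = e • g v) → g ∈ M
  notSemi : ∃ g ∈ M, ∃ (v : V) (e : E), ∀ f : E, g (e • v) ≠ f • g v

variable {M : Subgroup (V ≃ₗ[F] V)}

/-- `1 + A` lies in `M`. -/
def InM (M : Subgroup (V ≃ₗ[F] V)) (A : V →ₗ[F] V) : Prop := ∃ g ∈ M, ∀ x, g x = x + A x

omit [IsScalarTower F E V] in
theorem inM_zero : InM M (0 : V →ₗ[F] V) := ⟨1, one_mem M, fun x => by simp⟩

theorem InM.add {A A' : V →ₗ[F] V} (h : InM M A) (h' : InM M A') (h0 : ∀ x, A (A' x) = 0) :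
    InM M (A + A') := by
  obtain ⟨g, hg, eg⟩ := h
  obtain ⟨g', hg', eg'⟩ := h'
  refine ⟨g * g', mul_mem hg hg', fun x => ?_⟩
  rw [LinearEquiv.mul_apply, eg, eg', map_add, h0, LinearMap.add_apply]
  abel

theorem InM.neg {A : V →ₗ[F] V} (h : InM M A) (h0 : ∀ x, A (A x) = 0) : InM M (-A) := by
  obtain ⟨g, hg, eg⟩ := h
  refine ⟨g⁻¹, inv_mem hg, fun x => ?_⟩
  have hx : g (x - A x) = x := by rw [eg, map_sub, h0, sub_zero, sub_add_cancel]
  show g.symm x = _
  rw [LinearEquiv.symm_apply_eq, LinearMap.neg_apply, ← sub_eq_add_neg, hx]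

theorem InM.conj {A : V →ₗ[F] V} (h : InM M A) {k : V ≃ₗ[F] V} (hk : k ∈ M) {A' : V →ₗ[F] V}
    (e : ∀ x, A' (k x) = k (A x)) : InM M A' := by
  obtain ⟨g, hg, eg⟩ := h
  refine ⟨k * g * k⁻¹, mul_mem (mul_mem hk hg) (inv_mem hk), fun x => ?_⟩
  obtain ⟨y, rfl⟩ := k.surjective x
  rw [LinearEquiv.mul_apply, LinearEquiv.mul_apply, show k⁻¹ (k y) = y from k.symm_apply_apply y, eg, map_add,
    e]

/-- `x ↦ B(d, x) c + B(c, x) d`. -/
def cr (B : LinearMap.BilinForm F V) (c d : V) : V →ₗ[F] V := (B d).smulRight c + (B c).smulRight d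

/-- `x ↦ B(d, x) d`. -/
def sq (B : LinearMap.BilinForm F V) (d : V) : V →ₗ[F] V := (B d).smulRight d

theorem cr_apply (c d x : V) : cr B c d x = B d x • c + B c x • d := rfl

theorem sq_apply (d x : V) : sq B d x = B d x • d := rfl

theorem cr_smul_right (c d : V) (s : F) : cr B c (s • d) = s • cr B c d := by
  ext x; simp [cr_apply, smul_smul, mul_comm]

theorem cr_smul_left (c d : V) (s : F) : cr B (s • c) d = s • cr B c d := by
  ext x; simp [cr_apply, smul_smul, mul_comm]

theorem sq_smul (d : V) (s : F) : sq B (s • d) = (s * s) • sq B d := by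
  ext x; simp [sq_apply, smul_smul]; ring_nf

theorem sq_add (d d' : V) : sq B (d + d') = sq B d + sq B d' + cr B d d' := by
  ext x; simp [sq_apply, cr_apply, add_smul]; abel

theorem cr_add_right (c d d' : V) : cr B c (d + d') = cr B c d + cr B c d' := by
  ext x; simp [cr_apply, add_smul]; abel

theorem cr_comm (c d : V) : cr B c d = cr B d c := by
  ext x; simp [cr_apply, add_comm]

theorem cr_conj {k : V ≃ₗ[F] V} (hk : ∀ u v, B (k u) (k v) = B u v) (c d x : V) :
    cr B (k c) (k d) (k x) = k (cr B c d x) := by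
  simp [cr_apply, hk]

theorem sq_conj {k : V ≃ₗ[F] V} (hk : ∀ u v, B (k u) (k v) = B u v) (d x : V) :
    sq B (k d) (k x) = k (sq B d x) := by
  simp [sq_apply, hk]

variable [Finite E]

theorem Over.T_mem (hO : Over E B M) (D : EData E B) (u : V) (a : E) : D.T u a ∈ M :=
  hO.lin _ (D.T_iso u a) (D.T_smul u a)

theorem Over.Sg_mem (hO : Over E B M) (D : EData E B) (w p : V) (a : E) : D.Sg w p a ∈ M :=
  mul_mem (mul_mem (hO.T_mem D _ _) (hO.T_mem D _ _)) (hO.T_mem D _ _)

theorem Over.tpart_mem (hO : Over E B M) (D : EData E B) (u : V) (a : E) : InM M (D.tpart u a) :=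
  ⟨_, hO.T_mem D u a, fun _ => rfl⟩

/-- The group moves any non-zero vector to any other, linearly over `E`. -/
theorem exists_move [FiniteDimensional E V] (D : EData E B) (hO : Over E B M) {x z : V} (hx : x ≠ 0) (hz : z ≠ 0) :
    ∃ k ∈ M, k x = z ∧ ∀ (e : E) v, k (e • v) = e • k v := by
  have step : ∀ {x z : V}, D.BE x z ≠ 0 → ∃ k ∈ M, k x = z ∧ ∀ (e : E) v, k (e • v) = e • k v := by
    intro x z h
    refine ⟨D.T (z - x) (D.BE z x)⁻¹, hO.T_mem D _ _, ?_, D.T_smul _ _⟩
    have h' : D.BE z x ≠ 0 := fun e => h (by rw [D.BE_comm, e, neg_zero])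
    rw [D.T_apply, D.BE_sub_left, D.BE_self, sub_zero, inv_mul_cancel₀ h', one_smul, add_sub_cancel]
  by_cases hxz : D.BE x z = 0
  swap
  · exact step hxz
  obtain ⟨p, hpx, hpz⟩ : ∃ p, D.BE x p ≠ 0 ∧ D.BE p z ≠ 0 := by
    obtain ⟨s, hs⟩ : ∃ s, D.BE x s ≠ 0 := by
      by_contra hno
      push Not at hno
      exact hx (D.BE_nondeg hno)
    obtain ⟨t, ht⟩ : ∃ t, D.BE t z ≠ 0 := by
      by_contra hno
      push Not at hno
      exact hz (D.BE_nondeg fun v => by rw [D.BE_comm, hno, neg_zero])
    by_cases h1 : D.BE s z = 0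
    swap
    · exact ⟨s, hs, h1⟩
    by_cases h2 : D.BE x t = 0
    swap
    · exact ⟨t, h2, ht⟩
    exact ⟨s + t, by rw [D.BE_add_right, h2, add_zero]; exact hs, by rw [D.BE_add_left, h1, zero_add]; exact ht⟩
  obtain ⟨k, hk, e1, l1⟩ := step hpx
  obtain ⟨k', hk', e2, l2⟩ := step hpz
  exact ⟨k' * k, mul_mem hk' hk, by rw [LinearEquiv.mul_apply, e1, e2],
    fun e v => by rw [LinearEquiv.mul_apply, LinearEquiv.mul_apply, l1, l2]⟩

end Cfsg.Agent.Lib.SympExt
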