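import Cfsg.Agent.Lib.SympExt.Pairs

/-!
An overgroup of the `E`-linear isometries that is not semilinear contains every transvection.
-/

set_option autoImplicit false

namespace Cfsg.Agent.Lib.SympExt

open Module

variable {F E V : Type*} [Field F] [Field E] [Algebra F E] [AddCommGroup V] [Module F V] [Module E V]
  [IsScalarTower F E V] [Finite E] [FiniteDimensional F V] [FiniteDimensional E V] {B : LinearMap.BilinForm F V}
  {M : Subgroup (V ≃ₗ[F] V)}

theorem exists_transvection (D : EData E B) (hO : Over E B M) (hr : (finrank F E).Prime)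
    (hn : finrank F E = 2 → Nat.card F = 2 → 8 ≤ finrank F V) : ∃ (δ : V) (t : F), δ ≠ 0 ∧ t ≠ 0 ∧ InM M (t • sq B δ) := by
  haveI : Finite F := Finite.of_injective (algebraMap F E) (algebraMap F E).injective
  obtain ⟨w, y, Af, c, hw, hy, hR⟩ := exists_radData D hO hr
  have hr2 := hr.two_le
  by_cases h2 : Nat.card F = 2
  · have R : RadData E B M (Af 1) w y c 1 := by simpa using hR 1
    obtain ⟨u, hu, hp⟩ : ∃ u, u ≠ 0 ∧ ∀ e e' : E, InM M (cr B (e • u) (e' • u)) := by
      by_cases h3 : 3 ≤ finrank F E
      · exact exists_pairs_odd h2 h3 D hO R hw hy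
      · refine exists_pairs_two h2 ?_ hr2 D hO R hw hy
        have hE : finrank F E = 2 := by omega
        have h := finrank_mul_finrank F E V
        have h8 := hn hE h2
        rw [hE] at h
        omega
    obtain ⟨δ, hδ, h⟩ := sq_of_pairs h2 D hO hu hp
    exact ⟨δ, 1, hδ, one_ne_zero, by rwa [one_smul]⟩
  obtain ⟨s, hs0, hs1⟩ : ∃ s : F, s ≠ 0 ∧ s ≠ 1 := by
    by_contra hno
    push Not at hno
    haveI := Fintype.ofFinite F
    classical
    refine h2 ?_
    rw [Nat.card_eq_fintype_card]
    refine le_antisymm ?_ Fintype.one_lt_card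
    calc Fintype.card F = (Finset.univ : Finset F).card := rfl
      _ ≤ ({0, 1} : Finset F).card := Finset.card_le_card fun x _ => by
          simp only [Finset.mem_insert, Finset.mem_singleton]
          exact or_iff_not_imp_left.2 (hno x)
      _ ≤ 2 := Finset.card_le_two
  obtain ⟨u, hu, hu1⟩ := D.exists_sep (S := Submodule.span E {w}) (y := y) fun h => by
    obtain ⟨e, he⟩ := Submodule.mem_span_singleton.mp h
    exact hy ⟨e, he⟩
  have huw : D.BE w u = 0 := by rw [D.BE_comm, hu w (Submodule.mem_span_singleton_self w), neg_zero]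
  have hyu : D.BE y u = -1 := by rw [D.BE_comm, hu1]
  set φ : E →ₗ[F] F := (B y).comp ((LinearMap.toSpanSingleton E V u).restrictScalars F) with hφ
  obtain ⟨e, he, he0⟩ := Submodule.exists_mem_ne_zero_of_ne_bot (p := LinearMap.ker φ) fun e => by
    have h1 := φ.finrank_range_add_finrank_ker
    have h4 := Submodule.finrank_le (LinearMap.range φ)
    rw [e, finrank_bot] at h1
    rw [finrank_self] at h4
    omega
  set d := e • u with hd
  have hwd : D.BE w d = 0 := by rw [hd, D.BE_smul_right, huw, mul_zero]
  have hyd : D.BE y d ≠ 0 := by rw [hd, D.BE_smul_right, hyu]; simpa using he0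
  have hyd0 : B y d = 0 := he
  have h1 := rad_mem D hO (hR s) hwd hyd hyd0
  have R := hR 1
  have h2' := rad_mem D hO R (d := s • d) (by rw [D.BE_smulF_right, hwd, smul_zero])
    (by rw [D.BE_smulF_right]; exact smul_ne_zero hs0 hyd) (by rw [map_smul, hyd0, smul_zero])
  have hcd : B c d = 0 := by simpa using rad_orth D R hwd hyd0
  have hdc : B d c = 0 := by rw [D.skew, hcd, neg_zero]
  have hz : ∀ (a b a' b' : F) x, (a • cr B c d + b • sq B d) ((a' • cr B c d + b' • sq B d) x) = 0 :=
    fun a b a' b' x => by simp [cr_apply, sq_apply, hcd, hdc, D.alt]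
  rw [one_smul, cr_smul_right, one_smul, sq_smul] at h2'
  rw [cr_smul_left] at h1
  have h := h1.add (h2'.neg (hz _ _ _ _)) fun x => by
    rw [LinearMap.neg_apply, map_neg, hz, neg_zero]
  refine ⟨d, s - s * s, fun e' => hyd (by rw [e', D.BE_zero_right]), ?_, ?_⟩
  · rw [← mul_one_sub]
    exact mul_ne_zero hs0 (sub_ne_zero.mpr (Ne.symm hs1))
  · convert h using 1
    module

theorem all_transvections (D : EData E B) (hO : Over E B M) (hr : (finrank F E).Prime)
    (hn : finrank F E = 2 → Nat.card F = 2 → 8 ≤ finrank F V) (v : V) (a : F) : InM M (a • sq B v) := by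
  haveI : Finite F := Finite.of_injective (algebraMap F E) (algebraMap F E).injective
  by_cases hv : v = 0
  · rw [hv, show sq B (0 : V) = 0 by ext; simp [sq_apply], smul_zero]
    exact inM_zero
  obtain ⟨δ, t, hδ, ht, h⟩ := exists_transvection D hO hr hn
  have htv : ∀ s : F, s ≠ 0 → InM M ((t * (s * s)) • sq B v) := fun s hs => by
    obtain ⟨k, hk, hkδ, -⟩ := exists_move D hO hδ (z := s • v) (smul_ne_zero hs hv)
    refine h.conj hk fun x => ?_
    rw [LinearMap.smul_apply, LinearMap.smul_apply, map_smul, ← sq_conj (hO.iso k hk), hkδ, sq_smul,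
      LinearMap.smul_apply, mul_smul]
  have hsq : ∀ x : V, sq B v (sq B v x) = 0 := fun x => by simp [sq_apply, D.alt]
  let G : AddSubgroup F :=
    { carrier := {b | InM M ((t * b) • sq B v)}
      add_mem' := fun {b b'} hb hb' => by
        show InM M _
        rw [mul_add, add_smul]
        exact hb.add hb' fun x => by simp [hsq]
      zero_mem' := by
        show InM M _
        rw [mul_zero, zero_smul]; exact inM_zero
      neg_mem' := fun {b} hb => by
        show InM M _
        rw [mul_neg, neg_smul]
        exact hb.neg fun x => by simp [hsq] }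
  have hs : ∀ s : F, s * s ∈ G := fun s => by
    by_cases h0 : s = 0
    · simpa [h0] using G.zero_mem
    · exact htv s h0
  have hall : ∀ b : F, b ∈ G := fun b => by
    by_cases h2 : (2 : F) = 0
    · haveI : CharP F 2 := CharTwo.of_one_ne_zero_of_two_eq_zero one_ne_zero h2
      obtain ⟨s, rfl⟩ := FiniteField.isSquare_of_char_two (ringChar.eq F 2) b
      exact hs s
    · have e : b = (b + 1) / 2 * ((b + 1) / 2) - (b - 1) / 2 * ((b - 1) / 2) := by field_simp; ring
      rw [e]
      exact G.sub_mem (hs _) (hs _)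
  have := hall (a / t)
  have h' : InM M ((t * (a / t)) • sq B v) := this
  rwa [mul_div_cancel₀ _ ht] at h'

end Cfsg.Agent.Lib.SympExt
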