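import Cfsg.Agent.Lib.SympExt.Rad

/-!
Over the field of two elements: the alternating elements of an `E`-line, and from them a transvection.
-/

set_option autoImplicit false

namespace Cfsg.Agent.Lib.SympExt

open Module

variable {F E V : Type*} [Field F] [Field E] [Algebra F E] [AddCommGroup V] [Module F V] [Module E V]
  [IsScalarTower F E V] {B : LinearMap.BilinForm F V} {M : Subgroup (V ≃ₗ[F] V)}

theorem eq_zero_or_one (h2 : Nat.card F = 2) (x : F) : x = 0 ∨ x = 1 := by
  by_contra h
  push Not at h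
  haveI : Finite F := Nat.finite_of_card_ne_zero (by omega)
  haveI := Fintype.ofFinite F
  classical
  have h3 : ({0, 1, x} : Finset F).card ≤ Fintype.card F := Finset.card_le_univ _
  rw [Finset.card_eq_three.mpr ⟨0, 1, x, zero_ne_one, h.1.symm, h.2.symm, rfl⟩, ← Nat.card_eq_fintype_card, h2] at h3
  omega

theorem two_eq_zero (h2 : Nat.card F = 2) : (2 : F) = 0 :=
  (eq_zero_or_one h2 2).resolve_right fun h => one_ne_zero (α := F) (by linear_combination h)

theorem add_self_map (h2 : Nat.card F = 2) (A : V →ₗ[F] V) : A + A = 0 := by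
  rw [← two_smul F A, two_eq_zero h2, zero_smul]

/-- The rank two maps spanned by three vectors in one totally isotropic set annihilate each other. -/
theorem lin_comp_zero {c d c' d' : V} (h1 : B c c' = 0) (h2 : B c d' = 0) (h3 : B d c' = 0) (h4 : B d d' = 0)
    (a b : F) (x : V) : (cr B c d + a • sq B d) ((cr B c' d' + b • sq B d') x) = 0 := by
  simp [cr_apply, sq_apply, h1, h2, h3, h4]

variable [Finite E] [FiniteDimensional F V] [FiniteDimensional E V]

/-- Polarising the quadratic dependence on `d`. -/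
theorem cr_of_triple (h2 : Nat.card F = 2) (D : EData E B) {c d d' : V} (hcc : B c c = 0) (hcd : B c d = 0)
    (hcd' : B c d' = 0) (hdd : B d d' = 0) (h : InM M (cr B c d + (1 : F) • sq B d))
    (h' : InM M (cr B c d' + (1 : F) • sq B d')) (h'' : InM M (cr B c (d + d') + (1 : F) • sq B (d + d'))) :
    InM M (cr B d d') := by
  have hdc : B d c = 0 := by rw [D.skew, hcd, neg_zero]
  have hd'c : B d' c = 0 := by rw [D.skew, hcd', neg_zero]
  have hd'd : B d' d = 0 := by rw [D.skew, hdd, neg_zero]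
  have hs : ∀ x, (cr B c d + (1 : F) • sq B d) ((cr B c d' + (1 : F) • sq B d') x) = 0 :=
    lin_comp_zero hcc hcd' hdc hdd 1 1
  have key : cr B c d + (1 : F) • sq B d + (cr B c d' + (1 : F) • sq B d') +
      (cr B c (d + d') + (1 : F) • sq B (d + d')) = cr B d d' := by
    rw [cr_add_right, sq_add, one_smul, one_smul, one_smul]
    calc _ = (cr B c d + cr B c d) + (cr B c d' + cr B c d') + (sq B d + sq B d) + (sq B d' + sq B d') + cr B d d' := by
          abel
      _ = _ := by simp [add_self_map h2]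
  rw [← key]
  refine (h.add h' hs).add h'' fun x => ?_
  rw [LinearMap.add_apply]
  rw [lin_comp_zero hcc (by simp [hcd, hcd']) hdc (by simp [hdd, D.alt]) 1 1,
    lin_comp_zero hcc (by simp [hcd, hcd']) hd'c (by simp [hd'd, D.alt]) 1 1, add_zero]

theorem exists_pairs_odd (h2 : Nat.card F = 2) (h3 : 3 ≤ finrank F E) (D : EData E B) (hO : Over E B M)
    {A : V →ₗ[F] V} {w y c : V} (R : RadData E B M A w y c 1) (hw : w ≠ 0) (hy : y ∉ ln (F := F) E w) :
    ∃ u, u ≠ 0 ∧ ∀ e e' : E, InM M (cr B (e • u) (e' • u)) := by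
  obtain ⟨u, hu, hu1⟩ := D.exists_sep (S := Submodule.span E {w}) (y := y) fun h => by
    obtain ⟨e, he⟩ := Submodule.mem_span_singleton.mp h
    exact hy ⟨e, he⟩
  have huw : D.BE w u = 0 := by rw [D.BE_comm, hu w (Submodule.mem_span_singleton_self w), neg_zero]
  have hyu : D.BE y u = -1 := by rw [D.BE_comm, hu1]
  have hu0 : u ≠ 0 := fun e => one_ne_zero (α := E) (by rw [← hu1, e, ← zero_smul E u, D.BE_smul_left, zero_mul])
  have hB : ∀ e e' : E, B (e • u) (e' • u) = 0 := fun e e' => by
    rw [D.B_smul_BE, D.BE_smul_right, D.BE_self, mul_zero, mul_zero, map_zero]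
  set φ : E →ₗ[F] F := (B y).comp ((LinearMap.toSpanSingleton E V u).restrictScalars F) with hφ
  have hmem : ∀ e : E, φ e = 0 → e ≠ 0 →
      InM M (cr B c (e • u) + (1 : F) • sq B (e • u)) ∧ B c (e • u) = 0 := fun e h he =>
    ⟨rad_mem D hO R (by rw [D.BE_smul_right, huw, mul_zero]) (by rw [D.BE_smul_right, hyu]; simpa using he) h,
      rad_orth D R (by rw [D.BE_smul_right, huw, mul_zero]) h⟩
  have hker : ∀ e e' : E, φ e = 0 → φ e' = 0 → InM M (cr B (e • u) (e' • u)) := fun e e' h h' => by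
    by_cases he : e = 0
    · rw [he, zero_smul, show cr B 0 (e' • u) = 0 by ext x; simp [cr_apply]]; exact inM_zero
    by_cases he' : e' = 0
    · rw [he', zero_smul, show cr B (e • u) 0 = 0 by ext x; simp [cr_apply]]; exact inM_zero
    by_cases hee : e + e' = 0
    · have : e' = e := by
        have : (2 : E) = 0 := by rw [← map_ofNat (algebraMap F E) 2, two_eq_zero h2, map_zero]
        linear_combination hee - e * this
      rw [this, show cr B (e • u) (e • u) = sq B (e • u) + sq B (e • u) by ext x; simp [cr_apply, sq_apply],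
        add_self_map h2]
      exact inM_zero
    obtain ⟨m1, o1⟩ := hmem e h he
    obtain ⟨m2, o2⟩ := hmem e' h' he'
    obtain ⟨m3, -⟩ := hmem (e + e') (by rw [map_add, h, h', add_zero]) hee
    rw [add_smul] at m3
    exact cr_of_triple h2 D (D.alt c) o1 o2 (hB _ _) m1 m2 m3
  refine ⟨u, hu0, fun t t' => ?_⟩
  let L : E →ₗ[F] F × F := (φ.comp (LinearMap.mulLeft F t)).prod (φ.comp (LinearMap.mulLeft F t'))
  obtain ⟨s, hs, hs0⟩ := Submodule.exists_mem_ne_zero_of_ne_bot (p := LinearMap.ker L) fun e => by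
    have h1 := L.finrank_range_add_finrank_ker
    have h4 := Submodule.finrank_le (LinearMap.range L)
    rw [e, finrank_bot] at h1
    rw [Module.finrank_prod, finrank_self] at h4
    omega
  have hs1 : φ (t * s) = 0 := congrArg Prod.fst (LinearMap.mem_ker.mp hs)
  have hs2 : φ (t' * s) = 0 := congrArg Prod.snd (LinearMap.mem_ker.mp hs)
  obtain ⟨k, hk, hku, hkl⟩ := exists_move D hO hu0 (z := s⁻¹ • u) (smul_ne_zero (inv_ne_zero hs0) hu0)
  refine (hker _ _ hs1 hs2).conj hk fun x => ?_
  rw [← cr_conj (hO.iso k hk), hkl, hkl, hku, smul_smul, smul_smul, mul_inv_cancel_right₀ hs0,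
    mul_inv_cancel_right₀ hs0]

theorem exists_pairs_two (h2 : Nat.card F = 2) (h4 : 4 ≤ finrank E V) (hr2 : 2 ≤ finrank F E) (D : EData E B)
    (hO : Over E B M) {A : V →ₗ[F] V} {w y c : V} (R : RadData E B M A w y c 1) (hw : w ≠ 0)
    (hy : y ∉ ln (F := F) E w) : ∃ u, u ≠ 0 ∧ ∀ e e' : E, InM M (cr B (e • u) (e' • u)) := by
  obtain ⟨u, hu, hu1⟩ := D.exists_sep (S := Submodule.span E {w}) (y := y) fun h => by
    obtain ⟨e, he⟩ := Submodule.mem_span_singleton.mp h
    exact hy ⟨e, he⟩
  have huw : D.BE w u = 0 := by rw [D.BE_comm, hu w (Submodule.mem_span_singleton_self w), neg_zero]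
  have hyu : D.BE y u = -1 := by rw [D.BE_comm, hu1]
  set φ : E →ₗ[F] F := (B y).comp ((LinearMap.toSpanSingleton E V u).restrictScalars F) with hφ
  obtain ⟨e₀, he₀, he₀0⟩ := Submodule.exists_mem_ne_zero_of_ne_bot (p := LinearMap.ker φ) fun e => by
    have h1 := φ.finrank_range_add_finrank_ker
    have h4 := Submodule.finrank_le (LinearMap.range φ)
    rw [e, finrank_bot] at h1
    rw [finrank_self] at h4
    omega
  set p := e₀ • u with hp
  have hwp : D.BE w p = 0 := by rw [hp, D.BE_smul_right, huw, mul_zero]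
  have hyp : D.BE y p ≠ 0 := by rw [hp, D.BE_smul_right, hyu]; simpa using he₀0
  have hyp0 : B y p = 0 := he₀
  let L : V →ₗ[E] E × E × E := (D.form w).prod ((D.form y).prod (D.form p))
  obtain ⟨z, hz, hz0⟩ := Submodule.exists_mem_ne_zero_of_ne_bot (p := LinearMap.ker L) fun e => by
    have h1 := L.finrank_range_add_finrank_ker
    have h5 := Submodule.finrank_le (LinearMap.range L)
    rw [Module.finrank_prod, Module.finrank_prod, finrank_self] at h5
    rw [e, finrank_bot] at h1
    omega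
  refine ⟨z, hz0, fun e e' => ?_⟩
  by_cases he : e = 0
  · rw [he, zero_smul, show cr B 0 (e' • z) = 0 by ext x; simp [cr_apply]]; exact inM_zero
  set z' := (e' / e) • z with hz'd
  have hz' : z' ∈ LinearMap.ker L := Submodule.smul_mem _ _ hz
  have hzz : D.BE z z' = 0 := by rw [hz'd, D.BE_smul_right, D.BE_self, mul_zero]
  have hLz : D.BE w z = 0 ∧ D.BE y z = 0 ∧ D.BE p z = 0 := by simpa [L, EData.form] using hz
  have hLz' : D.BE w z' = 0 ∧ D.BE y z' = 0 ∧ D.BE p z' = 0 := by simpa [L, EData.form] using hz'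
  have hzz' : D.BE z z' = 0 := hzz
  have hmem : ∀ t : V, D.BE w t = 0 → D.BE y t = 0 →
      InM M (cr B c (p + t) + (1 : F) • sq B (p + t)) ∧ B c (p + t) = 0 := fun t h1 h2' => by
    have e1 : D.BE w (p + t) = 0 := by rw [D.BE_add_right, hwp, h1, add_zero]
    have e2 : B y (p + t) = 0 := by rw [map_add, hyp0, D.B_eq y t, h2', map_zero, add_zero]
    exact ⟨rad_mem D hO R e1 (by rw [D.BE_add_right, h2', add_zero]; exact hyp) e2, rad_orth D R e1 e2⟩
  obtain ⟨m1, o1⟩ := hmem z hLz.1 hLz.2.1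
  obtain ⟨m2, o2⟩ := hmem z' hLz'.1 hLz'.2.1
  obtain ⟨m0, o0⟩ := hmem 0 (D.BE_zero_right _) (D.BE_zero_right _)
  obtain ⟨m3, o3⟩ := hmem (z + z') (by rw [D.BE_add_right, hLz.1, hLz'.1, add_zero])
    (by rw [D.BE_add_right, hLz.2.1, hLz'.2.1, add_zero])
  rw [add_zero] at m0 o0
  have bpz : B p z = 0 := by rw [D.B_eq, hLz.2.2, map_zero]
  have bpz' : B p z' = 0 := by rw [D.B_eq, hLz'.2.2, map_zero]
  have bzz' : B z z' = 0 := by rw [D.B_eq, hzz', map_zero]
  have bzp : B z p = 0 := by rw [D.skew, bpz, neg_zero]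
  have bz'p : B z' p = 0 := by rw [D.skew, bpz', neg_zero]
  have bz'z : B z' z = 0 := by rw [D.skew, bzz', neg_zero]
  have hzero : ∀ d d' : V, B c d = 0 → B c d' = 0 → B d d' = 0 →
      ∀ x, (cr B c d + (1 : F) • sq B d) ((cr B c d' + (1 : F) • sq B d') x) = 0 := fun d d' a b ab =>
    lin_comp_zero (D.alt c) b (by rw [D.skew, a, neg_zero]) ab 1 1
  have hall : InM M (cr B z z') := by
    have k1 := m0.add m1 (hzero _ _ o0 o1 (by simp [D.alt, bpz]))
    have k2 := m2.add m3 (hzero _ _ o2 o3 (by simp [D.alt, bpz, bpz', bzp, bz'p, bz'z, bzz']))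
    have key : cr B c p + (1 : F) • sq B p + (cr B c (p + z) + (1 : F) • sq B (p + z)) +
        (cr B c (p + z') + (1 : F) • sq B (p + z') + (cr B c (p + (z + z')) + (1 : F) • sq B (p + (z + z'))))
        = cr B z z' := by
      simp only [cr_add_right, sq_add, one_smul]
      calc _ = (cr B c p + cr B c p) + (cr B c p + cr B c p) + (cr B c z + cr B c z) + (cr B c z' + cr B c z')
            + (sq B p + sq B p) + (sq B p + sq B p) + (sq B z + sq B z) + (sq B z' + sq B z')
            + (cr B p z + cr B p z) + (cr B p z' + cr B p z') + cr B z z' := by abel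
        _ = _ := by simp [add_self_map h2]
    rw [← key]
    have add0 : ∀ (G G' K K' : V →ₗ[F] V), (∀ y, G (K y) = 0) → (∀ y, G (K' y) = 0) → (∀ y, G' (K y) = 0) →
        (∀ y, G' (K' y) = 0) → ∀ y, (G + G') ((K + K') y) = 0 := fun G G' K K' g1 g2 g3 g4 y => by
      simp only [LinearMap.add_apply, map_add, g1, g2, g3, g4, add_zero]
    exact k1.add k2 (add0 _ _ _ _ (hzero _ _ o0 o2 (by simp [D.alt, bpz']))
      (hzero _ _ o0 o3 (by simp [D.alt, bpz, bpz'])) (hzero _ _ o1 o2 (by simp [D.alt, bpz', bzp, bzz']))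
      (hzero _ _ o1 o3 (by simp [D.alt, bpz, bpz', bzp, bzz'])))
  obtain ⟨k, hk, hkz, hkl⟩ := exists_move D hO hz0 (z := e • z) (smul_ne_zero he hz0)
  refine hall.conj hk fun x => ?_
  rw [← cr_conj (hO.iso k hk), hz'd, hkl, hkz, smul_smul, div_mul_cancel₀ _ he]

/-- From the pairs of a line to a transvection. -/
theorem sq_of_pairs (h2 : Nat.card F = 2) (D : EData E B) (hO : Over E B M) {u : V} (hu : u ≠ 0)
    (hpair : ∀ e e' : E, InM M (cr B (e • u) (e' • u))) :
    ∃ δ, δ ≠ 0 ∧ InM M (sq B δ) := by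
  classical
  haveI : Finite F := Finite.of_injective (algebraMap F E) (algebraMap F E).injective
  have hBu : ∀ e e' : E, B (e • u) (e' • u) = 0 := fun e e' => by
    rw [D.B_smul_BE, D.BE_smul_right, D.BE_self, mul_zero, mul_zero, map_zero]
  set S : Set (V →ₗ[F] V) :=
    {G | InM M G ∧ (∀ x, ∃ e : E, G x = e • u) ∧ ∀ e : E, G (e • u) = 0} with hS
  have hz : ∀ G ∈ S, ∀ G' ∈ S, ∀ x, G (G' x) = 0 := fun G hG G' hG' x => by
    obtain ⟨e, he⟩ := hG'.2.1 x
    rw [he, hG.2.2]
  have hSadd : ∀ G ∈ S, ∀ G' ∈ S, G + G' ∈ S := fun G hG G' hG' =>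
    ⟨hG.1.add hG'.1 (hz G hG G' hG'), fun x => by
      obtain ⟨e, he⟩ := hG.2.1 x
      obtain ⟨e', he'⟩ := hG'.2.1 x
      exact ⟨e + e', by rw [LinearMap.add_apply, he, he', add_smul]⟩,
      fun e => by rw [LinearMap.add_apply, hG.2.2, hG'.2.2, add_zero]⟩
  have hS0 : (0 : V →ₗ[F] V) ∈ S := ⟨inM_zero, fun x => ⟨0, by simp⟩, fun e => by simp⟩
  have hScr : ∀ e e' : E, cr B (e • u) (e' • u) ∈ S := fun e e' =>
    ⟨hpair e e', fun x => ⟨B (e' • u) x • e + B (e • u) x • e', by simp [cr_apply, add_smul]⟩,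
      fun f => by simp [cr_apply, hBu]⟩
  let b := Module.finBasis F E
  have hnd := traceForm_nondegenerate F E
  let b' := LinearMap.BilinForm.dualBasis (Algebra.traceForm F E) hnd b
  let Mc : Fin (finrank F E) → Fin (finrank F E) → F := fun i j => Algebra.trace F E (b' i * b' j)
  let d : Fin (finrank F E) → V := fun i => b i • u
  have hexp : ∀ x : E, x = ∑ i, Algebra.trace F E (b i * x) • b' i := fun x => by
    conv_lhs => rw [← b'.sum_repr x]
    refine Finset.sum_congr rfl fun i _ => ?_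
    rw [LinearMap.BilinForm.dualBasis_repr_apply, Algebra.traceForm_apply, mul_comm]
  have hexp' : ∀ x : E, x = ∑ j, Algebra.trace F E (b' j * x) • b j := fun x => by
    refine (b.sum_repr x).symm.trans (Finset.sum_congr rfl fun j _ => ?_)
    congr 1
    conv_rhs => rw [← b.sum_repr x]
    rw [Finset.mul_sum, map_sum, Finset.sum_eq_single j]
    · rw [mul_smul_comm, map_smul, ← Algebra.traceForm_apply,
        LinearMap.BilinForm.apply_dualBasis_left]
      simp
    · intro i _ hij
      rw [mul_smul_comm, map_smul, ← Algebra.traceForm_apply, LinearMap.BilinForm.apply_dualBasis_left,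
        if_neg hij, smul_zero]
    · simp
  have hD : D.tpart u 1 = ∑ i, ∑ j, Mc i j • (B (d i)).smulRight (d j) := by
    ext x
    simp only [LinearMap.sum_apply, LinearMap.smul_apply, LinearMap.smulRight_apply, D.tpart_apply, one_mul]
    conv_lhs => rw [hexp (D.BE u x)]
    rw [Finset.sum_smul]
    refine Finset.sum_congr rfl fun i _ => ?_
    rw [smul_assoc, hexp' (b' i), Finset.sum_smul, Finset.smul_sum]
    refine Finset.sum_congr rfl fun j _ => ?_
    rw [D.trace_BE, smul_assoc, smul_comm, show b' j * b' i = b' i * b' j from mul_comm _ _]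
  have hMsymm : ∀ i j, Mc i j = Mc j i := fun i j => by simp only [Mc, mul_comm]
  have hind : ∀ s : Finset (Fin (finrank F E)),
      (∑ i ∈ s, ∑ j ∈ s, Mc i j • (B (d i)).smulRight (d j)) + sq B (∑ i ∈ s, Mc i i • d i) ∈ S := by
    intro s
    induction s using Finset.induction_on with
    | empty => simpa [sq, show ((B 0).smulRight (0 : V)) = 0 by ext; simp] using hS0
    | @insert k s hk ih =>
      have e : (∑ i ∈ insert k s, ∑ j ∈ insert k s, Mc i j • (B (d i)).smulRight (d j))
            + sq B (∑ i ∈ insert k s, Mc i i • d i)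
          = ((∑ i ∈ s, ∑ j ∈ s, Mc i j • (B (d i)).smulRight (d j)) + sq B (∑ i ∈ s, Mc i i • d i))
            + ((∑ j ∈ s, Mc k j • cr B (d k) (d j)) + ∑ j ∈ s, (Mc k k * Mc j j) • cr B (d k) (d j)) := by
        have hkk : Mc k k * Mc k k = Mc k k := by rcases eq_zero_or_one h2 (Mc k k) with h | h <;> simp [h]
        have hR : ∀ j, cr B (d k) (d j) = (B (d j)).smulRight (d k) + (B (d k)).smulRight (d j) := fun j => rfl
        have hcr : cr B (Mc k k • d k) (∑ j ∈ s, Mc j j • d j)
            = ∑ j ∈ s, (Mc k k * Mc j j) • cr B (d k) (d j) := by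
          rw [show cr B (Mc k k • d k) (∑ j ∈ s, Mc j j • d j) = ∑ j ∈ s, cr B (Mc k k • d k) (Mc j j • d j) from
            map_sum (AddMonoidHom.mk' (cr B (Mc k k • d k)) (cr_add_right _)) _ _]
          exact Finset.sum_congr rfl fun j _ => by rw [cr_smul_left, cr_smul_right, smul_smul]
        have hkq : sq B (d k) = (B (d k)).smulRight (d k) := rfl
        rw [Finset.sum_insert hk, Finset.sum_insert hk, Finset.sum_insert hk, sq_add, hcr, sq_smul, hkk, hkq]
        simp only [Finset.sum_insert hk, hR, smul_add, Finset.sum_add_distrib, fun j => hMsymm j k]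
        calc _ = (Mc k k • (B (d k)).smulRight (d k) + Mc k k • (B (d k)).smulRight (d k))
              + ((∑ i ∈ s, ∑ j ∈ s, Mc i j • (B (d i)).smulRight (d j)) + sq B (∑ i ∈ s, Mc i i • d i)
              + (∑ j ∈ s, Mc k j • (B (d j)).smulRight (d k) + ∑ j ∈ s, Mc k j • (B (d k)).smulRight (d j)
                + (∑ j ∈ s, (Mc k k * Mc j j) • (B (d j)).smulRight (d k)
                  + ∑ j ∈ s, (Mc k k * Mc j j) • (B (d k)).smulRight (d j)))) := by abel
          _ = _ := by rw [add_self_map h2, zero_add]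
      rw [e]
      have hsum : ∀ a : Fin (finrank F E) → F, (∑ j ∈ s, a j • cr B (d k) (d j)) ∈ S := fun a =>
        Finset.sum_induction _ (· ∈ S) (fun G G' hG hG' => hSadd G hG G' hG') hS0 fun j _ => by
          rcases eq_zero_or_one h2 (a j) with h | h <;> rw [h]
          · rw [zero_smul]; exact hS0
          · rw [one_smul]; exact hScr _ _
      exact hSadd _ ih _ (hSadd _ (hsum _) _ (hsum _))
  set δ := ∑ i, Mc i i • d i with hδ
  refine ⟨δ, fun e => ?_, ?_⟩
  · have he0 : ∑ i, Mc i i • b i = 0 := by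
      have h : (∑ i, Mc i i • b i) • u = 0 := by
        rw [Finset.sum_smul, ← e]
        exact Finset.sum_congr rfl fun i _ => smul_assoc _ _ _
      exact (smul_eq_zero.mp h).resolve_right hu
    have hii : ∀ i, Algebra.trace F E (b' i * b' i) = 0 := fun i =>
      Fintype.linearIndependent_iff.mp b.linearIndependent _ he0 i
    haveI : CharP E 2 := CharTwo.of_one_ne_zero_of_two_eq_zero one_ne_zero (by
      rw [← map_ofNat (algebraMap F E) 2, two_eq_zero h2, map_zero])
    obtain ⟨z, hz1⟩ := Algebra.trace_surjective F E 1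
    obtain ⟨x, rfl⟩ := FiniteField.isSquare_of_char_two (ringChar.eq E 2) z
    refine zero_ne_one (α := F) (Eq.trans ?_ hz1)
    conv_rhs => rw [hexp x]
    rw [← pow_two, CharTwo.sum_sq, map_sum]
    refine (Finset.sum_eq_zero fun i _ => ?_).symm
    rw [smul_pow, map_smul, pow_two (b' i), hii, smul_zero]
  · have hU := hind Finset.univ
    rw [← hD, ← hδ] at hU
    have hDS : D.tpart u 1 ∈ S := ⟨hO.tpart_mem D u 1, fun x => ⟨_, rfl⟩, fun e => by
      rw [D.tpart_apply, D.BE_smul_right, D.BE_self, mul_zero, mul_zero, zero_smul]⟩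
    have := hSadd _ hDS _ hU
    rw [← add_assoc, add_self_map h2, zero_add] at this
    exact this.1

end Cfsg.Agent.Lib.SympExt
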