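import Cfsg.Agent.Lib.SympExt.Inter

/-!
Elements supported on the sum of the hyperplane case: `cr c d + σ sq d`.
-/

set_option autoImplicit false

namespace Cfsg.Agent.Lib.SympExt

open Module

variable {F E V : Type*} [Field F] [Field E] [Algebra F E] [AddCommGroup V] [Module F V] [Module E V]
  [IsScalarTower F E V] {B : LinearMap.BilinForm F V} {M : Subgroup (V ≃ₗ[F] V)}

/-- The data of a skew element with image in a subspace meeting the line of `w` in a hyperplane. -/
structure RadData (E : Type*) [Field E] [Module E V] (B : LinearMap.BilinForm F V) (M : Subgroup (V ≃ₗ[F] V))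
    (A : V →ₗ[F] V) (w y c : V) (σ : F) : Prop where
  mem : InM M A
  sq0 : ∀ x, A (A x) = 0
  skew : ∀ x z, B (A x) z = -B x (A z)
  image : ∀ x, ∃ e : E, A x = e • w + B c x • y
  perp : ∀ x, (∀ e : E, B (e • w) x = 0) → A x = B y x • c
  cform : ∃ e : E, c = e • w + σ • y
  cc : B c c = 0

/-- Scaling. -/
theorem RadData.scale {A : V →ₗ[F] V} {w y c : V} {σ : F} (R : RadData E B M A w y c σ) (s : F)
    (hmem : InM M (s • A)) : RadData E B M (s • A) w y (s • c) (s * σ) := by
  refine ⟨hmem, fun x => by simp [R.sq0], fun x z => by simp [R.skew],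
    fun x => ?_, fun x hx => ?_, ?_, by simp [R.cc]⟩
  · obtain ⟨e, he⟩ := R.image x
    exact ⟨s • e, by simp [he, smul_add, smul_smul]⟩
  · simp [R.perp x hx, smul_comm s]
  · obtain ⟨e, he⟩ := R.cform
    exact ⟨s • e, by simp [he, smul_add, smul_smul]⟩

variable [Finite E]

/-- The element `cr c d + σ sq d`. -/
theorem rad_mem (D : EData E B) (hO : Over E B M) {A : V →ₗ[F] V} {w y c : V} {σ : F}
    (R : RadData E B M A w y c σ) {d : V} (hdw : D.BE w d = 0) (hdy : D.BE y d ≠ 0) (hyd : B y d = 0) :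
    InM M (cr B c d + σ • sq B d) := by
  have hdy' : D.BE d y ≠ 0 := fun e => hdy (by rw [D.BE_comm, e, neg_zero])
  set β := (D.BE d y)⁻¹ with hβ
  set Dd := D.tpart d β with hDd
  have hwd : ∀ e : E, B (e • w) d = 0 := fun e => by rw [D.B_smul_BE, hdw, mul_zero, map_zero]
  have hDw : ∀ e : E, Dd (e • w) = 0 := fun e => by
    rw [hDd, D.tpart_apply, D.BE_smul_right, D.BE_comm, hdw, neg_zero, mul_zero, mul_zero, zero_smul]
  have hDy : Dd y = d := by rw [hDd, D.tpart_apply, hβ, inv_mul_cancel₀ hdy', one_smul]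
  have hDA : ∀ x, Dd (A x) = B c x • d := fun x => by
    obtain ⟨e, he⟩ := R.image x
    rw [he, map_add, hDw, map_smul, hDy, zero_add]
  have hAd : A d = 0 := by rw [R.perp d hwd, hyd, zero_smul]
  have hAD : ∀ x, A (Dd x) = -(B d x) • c := fun x => by
    rw [R.perp (Dd x) (fun e => by
      rw [show Dd x = (β * D.BE d x) • d from rfl, ← D.adj, smul_smul, hwd])]
    congr 1
    have h := D.tpart_skew d β y x
    rw [← hDd, hDy] at h
    linear_combination h
  have hDc : Dd c = σ • d := by
    obtain ⟨e, he⟩ := R.cform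
    rw [he, map_add, hDw, map_smul, hDy, zero_add]
  set A' : V →ₗ[F] V := (LinearMap.id + Dd) ∘ₗ A ∘ₗ (LinearMap.id - Dd) with hA'
  have hA'mem : InM M A' := R.mem.conj (hO.T_mem D d β) fun x => by
    simp only [hA', LinearMap.comp_apply, LinearMap.add_apply, LinearMap.sub_apply, LinearMap.id_apply,
      D.T_apply, ← D.tpart_apply, ← hDd, map_add, map_sub, show Dd (Dd x) = 0 from D.tpart_tpart d β β x, map_zero, add_zero,
      sub_zero]
    abel
  have hprod : ∀ x, A' ((-A) x) = 0 := fun x => by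
    simp only [hA', LinearMap.comp_apply, LinearMap.add_apply, LinearMap.sub_apply, LinearMap.id_apply,
      LinearMap.neg_apply, map_neg, map_sub, R.sq0, hDA, map_smul, hAd, smul_zero, sub_zero, add_zero, neg_zero,
      map_zero]
  have h := hA'mem.add (R.mem.neg R.sq0) hprod
  convert h using 1
  ext x
  simp only [hA', LinearMap.comp_apply, LinearMap.add_apply, LinearMap.sub_apply, LinearMap.id_apply,
    LinearMap.neg_apply, map_sub, hAD, hDA, map_smul, map_neg, hDc, cr_apply, sq_apply, LinearMap.smul_apply,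
    smul_smul, neg_smul]
  module

theorem exists_radData [FiniteDimensional F V] [FiniteDimensional E V] (D : EData E B) (hO : Over E B M)
    (hr : (finrank F E).Prime) :
    ∃ (w y : V) (Af : F → (V →ₗ[F] V)) (c : V), w ≠ 0 ∧ y ∉ ln (F := F) E w ∧
      ∀ s, RadData E B M (Af s) w y (s • c) s := by
  haveI : Finite F := Finite.of_injective (algebraMap F E) (algebraMap F E).injective
  have hr2 := hr.two_le
  obtain ⟨g, hg, v, w, hv, hw, hne, hX⟩ :=
    inter_hyperplane D hO hr (finrank F E - 1) (by omega) (by omega)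
  set X := img E g v ⊓ ln E w with hXdef
  have hlt := finrank_inter_lt (F := F) hv hw hne
  obtain ⟨y, hy, hyX⟩ := SetLike.exists_of_lt (lt_of_le_of_ne (inf_le_left : X ≤ img E g v) fun e => by
    rw [e, finrank_img g hv] at hlt
    omega)
  have hyw : y ∉ ln (F := F) E w := fun h => hyX ⟨hy, h⟩
  have hsup : X ⊔ Submodule.span F {y} = img E g v := by
    refine Submodule.eq_of_le_of_finrank_le (sup_le inf_le_left (by simpa using hy)) ?_
    have hlt' : X < X ⊔ Submodule.span F {y} := lt_of_le_of_ne le_sup_left fun e =>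
      (show y ∉ X from hyX) (by rw [e]; exact Submodule.mem_sup_right (Submodule.mem_span_singleton_self y))
    have := Submodule.finrank_lt_finrank_of_lt hlt'
    rw [finrank_img g hv]
    omega
  obtain ⟨x1, hx1X, hx1y⟩ : ∃ x1, (∀ x ∈ X, B x x1 = 0) ∧ B y x1 = 1 := by
    obtain ⟨φ, hφ, hφX⟩ := Submodule.exists_dual_map_eq_bot_of_notMem hyX inferInstance
    have hnd : B.Nondegenerate := ⟨D.nondeg, fun z hz => D.nondeg z fun u => by rw [D.skew, hz u, neg_zero]⟩
    set u := (LinearMap.BilinForm.toDual B hnd).symm φ with hu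
    have key : ∀ x, B u x = φ x := fun x => by rw [hu, LinearMap.BilinForm.apply_toDual_symm_apply]
    refine ⟨-(φ y)⁻¹ • u, fun x hx => ?_, ?_⟩
    · have h : φ x ∈ X.map φ := ⟨x, hx, rfl⟩
      rw [hφX, Submodule.mem_bot] at h
      rw [map_smul, D.skew x, key, h, neg_zero, smul_zero]
    · rw [map_smul, D.skew y, key, smul_eq_mul]
      field_simp
  set z := D.BE v (g.symm x1) with hz
  have hz0 : z ≠ 0 := fun e => by
    obtain ⟨_, ⟨f, rfl⟩, e1⟩ := hy
    have : B y x1 = 0 := by
      rw [← e1, ← g.apply_symm_apply x1]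
      show B (g (f • v)) (g (g.symm x1)) = 0
      rw [hO.iso g hg, D.B_smul_BE, ← hz, e, mul_zero, map_zero]
    exact one_ne_zero (α := F) (hx1y ▸ this)
  obtain ⟨e1, he1⟩ := Algebra.trace_surjective F E 1
  set a := e1 / (z * z) with ha
  set A : V →ₗ[F] V := (g : V →ₗ[F] V) ∘ₗ D.tpart v a ∘ₗ (g.symm : V →ₗ[F] V) with hA
  have hAmem : ∀ s : F, InM M (s • A) := fun s => (hO.tpart_mem D v (s • a)).conj hg fun x => by
    simp [hA, D.tpart_apply, smul_assoc]
  have hAimg : ∀ x, A x ∈ img E g v := fun x =>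
    ⟨(a * D.BE v (g.symm x)) • v, smul_mem_ln _ v, rfl⟩
  have hskew : ∀ x z', B (A x) z' = -B x (A z') := fun x z' => by
    conv_lhs => rw [← g.apply_symm_apply z']
    conv_rhs => rw [← g.apply_symm_apply x]
    simp only [hA, LinearMap.comp_apply, LinearEquiv.coe_coe, hO.iso g hg, D.tpart_skew, g.symm_apply_apply]
  have hdec : ∀ z' ∈ img E g v, ∃ e : E, z' = e • w + B z' x1 • y := fun z' hz' => by
    rw [← hsup] at hz'
    obtain ⟨ξ, hξ, η, hη, rfl⟩ := Submodule.mem_sup.mp hz'
    obtain ⟨θ, rfl⟩ := Submodule.mem_span_singleton.mp hη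
    obtain ⟨e, he⟩ := hξ.2
    refine ⟨e, ?_⟩
    rw [map_add, LinearMap.add_apply, map_smul, LinearMap.smul_apply, hx1X ξ hξ, hx1y]
    simp only [LinearMap.restrictScalars_apply, LinearMap.toSpanSingleton_apply] at he
    simp [he]
  have hc1 : B (A x1) x1 = 1 := by
    conv_lhs => rw [← g.apply_symm_apply x1]
    simp only [hA, LinearMap.comp_apply, LinearEquiv.coe_coe, hO.iso g hg, g.symm_apply_apply, D.tpart_apply,
      D.B_smul_BE, ← hz]
    rw [show a * z * z = e1 by rw [ha, mul_assoc, div_mul_cancel₀ _ (mul_ne_zero hz0 hz0)], he1]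
  have R : RadData E B M A w y (A x1) 1 := by
    refine ⟨by simpa using hAmem 1, fun x => ?_, hskew, fun x => ?_, fun x hx => ?_, ?_, ?_⟩
    · simp only [hA, LinearMap.comp_apply, LinearEquiv.coe_coe, g.symm_apply_apply, D.tpart_tpart, map_zero]
    · obtain ⟨e, he⟩ := hdec _ (hAimg x)
      refine ⟨e, ?_⟩
      rwa [show B (A x1) x = B (A x) x1 by rw [hskew x x1, D.skew]]
    · set x' := x - B y x • x1 with hx'
      have hkill : ∀ z' ∈ img E g v, B z' x' = 0 := fun z' hz' => by
        rw [← hsup] at hz'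
        obtain ⟨ξ, hξ, η, hη, rfl⟩ := Submodule.mem_sup.mp hz'
        obtain ⟨θ, rfl⟩ := Submodule.mem_span_singleton.mp hη
        obtain ⟨e, he⟩ := hξ.2
        have h0 : B ξ x = 0 := by rw [← he]; exact hx e
        simp [hx', h0, hx1X ξ hξ, hx1y]
      have h1 : D.BE v (g.symm x') = 0 := D.BE_unique fun e => by
        rw [mul_zero, map_zero, ← hO.iso g hg, g.apply_symm_apply, hkill (g (e • v)) ⟨_, smul_mem_ln e v, rfl⟩]
      have h2 : A x' = 0 := by simp [hA, D.tpart_apply, h1]
      rw [hx', map_sub, map_smul, sub_eq_zero] at h2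
      exact h2
    · obtain ⟨e, he⟩ := hdec _ (hAimg x1)
      exact ⟨e, by rwa [hc1] at he⟩
    · exact D.alt _
  exact ⟨w, y, fun s => s • A, A x1, hw, hyw, fun s => by simpa using R.scale s (hAmem s)⟩

/-- Every product of two of these elements vanishes. -/
theorem rad_orth (D : EData E B) {A : V →ₗ[F] V} {w y c : V} {σ : F} (R : RadData E B M A w y c σ) {d : V}
    (hdw : D.BE w d = 0) (hyd : B y d = 0) : B c d = 0 := by
  obtain ⟨e, rfl⟩ := R.cform
  rw [map_add, LinearMap.add_apply, D.B_smul_BE, hdw, mul_zero, map_zero, zero_add, map_smul, LinearMap.smul_apply,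
    hyd, smul_zero]

end Cfsg.Agent.Lib.SympExt
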