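import Cfsg.Agent.Lib.SympExt.Main
import Cfsg.Agent.Lib.SympMax.Basic

/-!
The normaliser of a self-adjoint field of prime degree is maximal in the symplectic group.
-/

set_option autoImplicit false
set_option linter.style.haveILetI false

namespace Cfsg.Agent.Lib.SympExt

open Matrix Cfsg.Agent.Lib

variable {F : Type*} [Field F] [Fintype F] {m : ℕ}

local notation "Vs" => (Fin m ⊕ Fin m → F)
local notation "Ms" => Matrix (Fin m ⊕ Fin m) (Fin m ⊕ Fin m) F

theorem isMaximalIn_fieldNormalizer_gen (hm : 1 ≤ m) (r : ℕ) (hr : r.Prime) (hm2 : r = 2 → 4 ≤ m)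
    (K : Subalgebra F Ms)
    (hK : Cfsg.Geo.IsFieldSubalgebra r K) (hsa : Cfsg.Geo.IsSelfAdjointFor (Cfsg.sympForm m F) K)
    (halt : ∀ k ∈ K, ∀ v : Vs, Cfsg.sympForm m F (k *ᵥ v) v = 0) :
    Cfsg.Geo.IsMaximalIn (Cfsg.spGL m F) (Cfsg.Geo.subalgebraNormalizer K ⊓ Cfsg.spGL m F) := by
  classical
  let i0 : Fin m ⊕ Fin m := Sum.inl ⟨0, by omega⟩
  haveI : Nontrivial K := ⟨⟨1, 0, fun h => by
    have := congrArg (fun a : K => (a : Ms) i0 i0) h
    simp at this⟩⟩
  letI fK : Field K :=
    IsField.toField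
      { exists_pair_ne := exists_pair_ne K
        mul_comm := fun x y => Subtype.ext (hK.comm x x.2 y y.2)
        mul_inv_cancel := fun {x} hx => by
          obtain ⟨y, hy, hxy⟩ := hK.inv x x.2 (fun h => hx (Subtype.ext h))
          exact ⟨⟨y, hy⟩, Subtype.ext hxy⟩ }
  letI mK : Module K Vs :=
    { smul := fun a v => (a : Ms) *ᵥ v
      one_smul := fun v => Matrix.one_mulVec v
      mul_smul := fun a b v => (Matrix.mulVec_mulVec v _ _).symm
      smul_zero := fun a => Matrix.mulVec_zero _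
      zero_smul := fun v => Matrix.zero_mulVec v
      smul_add := fun a v w => Matrix.mulVec_add _ v w
      add_smul := fun a b v => Matrix.add_mulVec _ _ v }
  haveI hT : IsScalarTower F K Vs := ⟨fun c a v => Matrix.smul_mulVec c _ v⟩
  haveI : Finite K := Finite.of_injective _ Subtype.val_injective
  haveI : FiniteDimensional K Vs := Module.Finite.of_finite
  have hsm : ∀ (k : K) (v : Vs), k • v = (k : Ms) *ᵥ v := fun k v => rfl
  have hnd : ∀ u : Vs, (∀ v, Forms.sympBilin m F u v = 0) → u = 0 :=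
    (Forms.sympBilin_goodForm (F := F) (m := m)).nondeg
  have D : EData K (Forms.sympBilin m F) := by
    refine ⟨hnd, fun e u v => ?_, fun e v => ?_⟩
    · rw [Forms.sympBilin_apply, Forms.sympBilin_apply, hsm, hsm, hsa e e.2]
    · rw [Forms.sympBilin_apply, hsm, halt e e.2]
  have hdimF : Module.finrank F Vs = 2 * m := by
    rw [Module.finrank_fintype_fun_eq_card]; simp; omega
  have hrK : Module.finrank F K = r := hK.finrank_eq
  -- mapping into the algebra suffices
  have hnorm : ∀ g : GL (Fin m ⊕ Fin m) F,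
      (∀ k ∈ K, (g : Ms) * k * ((g⁻¹ : GL (Fin m ⊕ Fin m) F) : Ms) ∈ K) →
      g ∈ Cfsg.Geo.subalgebraNormalizer K := by
    intro g h a
    refine ⟨h a, fun ha => ?_⟩
    let f : K → K := fun x => ⟨_, h x x.2⟩
    have hf : Function.Injective f := fun x y hxy => Subtype.ext
      ((Units.mul_right_inj g).mp ((Units.mul_left_inj g⁻¹).mp (congrArg Subtype.val hxy)))
    obtain ⟨x, hx⟩ := Finite.surjective_of_injective hf ⟨_, ha⟩
    exact ((Units.mul_right_inj g).mp ((Units.mul_left_inj g⁻¹).mp (congrArg Subtype.val hx))) ▸ x.2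
  obtain ⟨k₀, hk₀, hk₀F⟩ : ∃ k ∈ K, ∀ c : F, k ≠ c • (1 : Ms) := by
    by_contra hno
    push Not at hno
    have hsurj : Function.Surjective (Algebra.linearMap F K) := fun x => by
      obtain ⟨c, hc⟩ := hno x x.2
      exact ⟨c, Subtype.ext (by simp [Algebra.algebraMap_eq_smul_one, hc])⟩
    have h := LinearMap.finrank_le_finrank_of_injective (f := Algebra.linearMap F K)
      (algebraMap F K).injective
    have h' := (Algebra.linearMap F K).finrank_range_le
    rw [LinearMap.range_eq_top.mpr hsurj, finrank_top, hrK, Module.finrank_self] at h'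
    exact absurd h' (by have := hr.two_le; omega)
  refine ⟨lt_of_le_of_ne inf_le_right fun heq => ?_, fun M hHM hMS => ?_⟩
  · -- some transvection does not normalise
    obtain ⟨v, hv⟩ : ∃ v : Vs, ∀ c : F, k₀ *ᵥ v ≠ c • v := by
      by_contra hno
      push Not at hno
      have hv0 : (Pi.single i0 1 : Vs) ≠ 0 := by simp
      obtain ⟨c, hc⟩ := hno (Pi.single i0 1)
      refine hk₀F c (sub_eq_zero.mp ?_)
      have h : ((⟨k₀, hk₀⟩ : K) - c • (1 : K)) • (Pi.single i0 1 : Vs) = 0 := by
        rw [sub_smul, smul_assoc, one_smul, hsm, sub_eq_zero]; exact hc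
      exact congrArg Subtype.val ((smul_eq_zero.mp h).resolve_right hv0)
    have hv0 : v ≠ 0 := fun e => hv 0 (by simp [e])
    obtain ⟨x, hx⟩ := SympMax.exists_form_ne hv0
    have hx' : Cfsg.sympForm m F x v ≠ 0 := by rw [Forms.sympForm_comm]; simpa using hx
    have hT1 : SympMax.T v 1 ∈ Cfsg.Geo.subalgebraNormalizer K := (heq.ge (SympMax.T_mem v 1)).1
    set k' := (SympMax.T v 1 : Ms) * k₀ * ((SympMax.T v (1 : F))⁻¹ : GL (Fin m ⊕ Fin m) F) with hk'
    have hk'K : k' ∈ K := (hT1 k₀).mp hk₀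
    have hTv : ((SympMax.T v (1 : F))⁻¹ : GL (Fin m ⊕ Fin m) F).val *ᵥ v = v := by
      have h := congrArg (fun y => ((SympMax.T v (1 : F))⁻¹ : GL (Fin m ⊕ Fin m) F).val *ᵥ y)
        (show (SympMax.T v (1 : F) : Ms) *ᵥ v = v by simp [Forms.sympForm_self])
      simp only [mulVec_mulVec, ← Units.val_mul, inv_mul_cancel, Units.val_one, one_mulVec] at h
      exact h.symm
    have hkv : k' *ᵥ v = k₀ *ᵥ v := by
      rw [hk', ← mulVec_mulVec, hTv, ← mulVec_mulVec, SympMax.T_mulVec, halt k₀ hk₀ v]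
      simp
    have hkk : (⟨k', hk'K⟩ : K) = ⟨k₀, hk₀⟩ := by
      have h : ((⟨k', hk'K⟩ : K) - ⟨k₀, hk₀⟩) • v = 0 := by rw [sub_smul, hsm, hsm, hkv, sub_self]
      exact sub_eq_zero.mp ((smul_eq_zero.mp h).resolve_right hv0)
    have hcomm : (SympMax.T v 1 : Ms) * k₀ = k₀ * (SympMax.T v 1 : Ms) := by
      conv_rhs => rw [show k₀ = k' from (congrArg Subtype.val hkk).symm, hk']
      rw [mul_assoc _ _ (SympMax.T v 1 : Ms), ← Units.val_mul, inv_mul_cancel, Units.val_one, mul_one]
    have h := congrArg (fun A : Ms => A *ᵥ x) hcomm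
    simp only [← mulVec_mulVec, SympMax.T_mulVec, one_mul, mulVec_add, mulVec_smul, add_right_inj] at h
    refine hv (Cfsg.sympForm m F (k₀ *ᵥ x) v / Cfsg.sympForm m F x v) ?_
    rw [div_eq_inv_mul, ← smul_smul, h, smul_smul, inv_mul_cancel₀ hx', one_smul]
  by_cases hle : M ≤ Cfsg.Geo.subalgebraNormalizer K
  · exact Or.inl (le_antisymm (le_inf hle hMS) hHM)
  right
  obtain ⟨A, hAM, hA⟩ := SetLike.not_le_iff_exists.mp hle
  set Φ := Forms.glEquiv (Fin m ⊕ Fin m) F with hΦ
  set M' := M.map Φ.toMonoidHom with hM'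
  have hO : Over K (Forms.sympBilin m F) M' := by
    refine ⟨?_, fun g hg hlin => ?_, ?_⟩
    · rintro _ ⟨B, hB, rfl⟩ u v
      rw [Forms.sympBilin_apply, Forms.sympBilin_apply]
      exact hMS hB u v
    · refine ⟨Φ.symm g, hHM ⟨hnorm _ fun k hk => ?_, fun u v => ?_⟩, Φ.apply_symm_apply g⟩
      · have e : ((Φ.symm g : GL (Fin m ⊕ Fin m) F) : Ms) * k = k * ((Φ.symm g : GL (Fin m ⊕ Fin m) F) : Ms) := by
          refine Matrix.ext_iff_mulVec.mpr fun x => ?_
          rw [← mulVec_mulVec, ← mulVec_mulVec, hΦ, Forms.glEquiv_symm_mulVec, Forms.glEquiv_symm_mulVec,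
            ← hsm ⟨k, hk⟩, hlin, hsm]
        rw [e, mul_assoc, ← Units.val_mul, mul_inv_cancel, Units.val_one, mul_one]
        exact hk
      · show Cfsg.sympForm m F (((Φ.symm g : GL (Fin m ⊕ Fin m) F) : Ms) *ᵥ u)
          (((Φ.symm g : GL (Fin m ⊕ Fin m) F) : Ms) *ᵥ v) = _
        rw [hΦ, Forms.glEquiv_symm_mulVec, Forms.glEquiv_symm_mulVec, ← Forms.sympBilin_apply, hg,
          Forms.sympBilin_apply]
    · refine ⟨Φ A, Subgroup.mem_map_of_mem _ hAM, ?_⟩
      by_contra hno
      push Not at hno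
      apply hA
      set g := Φ A with hg
      choose φ hφ using hno
      have hge : ∀ (v w : Vs) (e : K), v ≠ 0 → (∀ f : K, w ≠ f • v) → φ v e = φ w e := by
        intro v w e hv hw
        have hgv : g v ≠ 0 := by simpa using hv
        have hind : ∀ f : K, g w ≠ f • g v := by
          intro f hf
          let L : K → K := fun e => φ v e
          have hL : Function.Injective L := fun a b hab => by
            have h1 : g (a • v) = g (b • v) := by rw [hφ, hφ]; exact congrArg (· • g v) hab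
            exact smul_left_injective K hv (g.injective h1)
          obtain ⟨e', he'⟩ := Finite.surjective_of_injective hL f
          exact hw e' (g.injective (by rw [hf, hφ, ← he']))
        have h1 := hφ (v + w) e
        rw [smul_add, map_add, map_add, smul_add, hφ, hφ] at h1
        have h2 : (φ v e - φ (v + w) e) • g v = (φ (v + w) e - φ w e) • g w := by
          rw [sub_smul, sub_smul, sub_eq_sub_iff_add_eq_add, h1]; abel
        have h3 : φ (v + w) e - φ w e = 0 := by
          by_contra h3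
          exact hind ((φ (v + w) e - φ w e)⁻¹ * (φ v e - φ (v + w) e))
            (by rw [mul_smul, h2, smul_smul, inv_mul_cancel₀ h3, one_smul])
        rw [h3, zero_smul, smul_eq_zero] at h2
        exact (sub_eq_zero.mp (h2.resolve_right hgv)).trans (sub_eq_zero.mp h3)
      have hrank : 2 ≤ Module.finrank K Vs := by
        by_contra hlt
        have h := Module.finrank_mul_finrank F K Vs
        rw [hdimF] at h
        have hpos : Module.finrank K Vs = 1 := by
          interval_cases hh : Module.finrank K Vs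
          · omega
          · rfl
        obtain ⟨b, hb0, hb⟩ := finrank_eq_one_iff'.mp hpos
        refine hb0 (D.BE_nondeg fun x => ?_)
        obtain ⟨f, rfl⟩ := hb x
        rw [D.BE_smul_right, D.BE_self, mul_zero]
      obtain ⟨v₀, hv₀⟩ : ∃ v : Vs, v ≠ 0 := ⟨Pi.single i0 1, by simp⟩
      obtain ⟨v₁, -, hv₁⟩ := SetLike.exists_of_lt (lt_top_iff_ne_top.mpr
        (show Submodule.span K ({v₀} : Set Vs) ≠ ⊤ from fun e => by
          have h := congrArg (fun S : Submodule K Vs => Module.finrank K S) e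
          simp only [finrank_span_singleton hv₀, finrank_top] at h
          omega))
      have hv₁' : ∀ f : K, v₁ ≠ f • v₀ := fun f e => hv₁ (e ▸ Submodule.smul_mem _ _
        (Submodule.mem_span_singleton_self v₀))
      have hall : ∀ (v : Vs) (e : K), g (e • v) = φ v₀ e • g v := by
        intro v e
        by_cases hv : v = 0
        · simp [hv]
        by_cases hd : ∀ f : K, v ≠ f • v₀
        · rw [hφ, hge v₀ v e hv₀ hd]
        push Not at hd
        obtain ⟨f, rfl⟩ := hd
        rw [hφ, hge (f • v₀) v₁ e hv fun f' e' => hv₁' (f' * f) (by rw [e', smul_smul]),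
          ← hge v₀ v₁ e hv₀ hv₁']
      refine hnorm A fun k hk => ?_
      have e : (A : Ms) * k = (φ v₀ ⟨k, hk⟩ : Ms) * (A : Ms) := by
        refine Matrix.ext_iff_mulVec.mpr fun x => ?_
        rw [← mulVec_mulVec, ← mulVec_mulVec, ← Forms.glEquiv_apply, ← Forms.glEquiv_apply]
        exact hall x ⟨k, hk⟩
      rw [e, mul_assoc, ← Units.val_mul, mul_inv_cancel, Units.val_one, mul_one]
      exact (φ v₀ ⟨k, hk⟩).2
  refine SympMax.eq_spGL hMS fun v c => ?_
  obtain ⟨_, ⟨B, hB, rfl⟩, hBe⟩ := all_transvections D hO (by rw [hrK]; exact hr)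
    (fun h2 _ => by have := hm2 (hrK ▸ h2); rw [hdimF]; omega) v (-c)
  suffices e : SympMax.T v c = B by rw [e]; exact hB
  refine Units.ext (Matrix.ext_iff_mulVec.mpr fun x => ?_)
  rw [SympMax.T_mulVec, ← Forms.glEquiv_apply B]
  refine Eq.trans ?_ (hBe x).symm
  rw [LinearMap.smul_apply, sq_apply, Forms.sympBilin_apply, Forms.sympForm_comm v x, smul_smul]
  congr 2
  ring

theorem isMaximalIn_fieldNormalizer (hm : 7 ≤ m) (r : ℕ) (hr : r.Prime) (K : Subalgebra F Ms)
    (hK : Cfsg.Geo.IsFieldSubalgebra r K) (hsa : Cfsg.Geo.IsSelfAdjointFor (Cfsg.sympForm m F) K)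
    (halt : ∀ k ∈ K, ∀ v : Vs, Cfsg.sympForm m F (k *ᵥ v) v = 0) :
    Cfsg.Geo.IsMaximalIn (Cfsg.spGL m F) (Cfsg.Geo.subalgebraNormalizer K ⊓ Cfsg.spGL m F) :=
  isMaximalIn_fieldNormalizer_gen (by omega) r hr (fun _ => by omega) K hK hsa halt

end Cfsg.Agent.Lib.SympExt
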